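import Cfsg.Agent.Lib.S3298.Finite.Aut

/-!
S3298: the group of eight or nine points as an alternating group and its two classes of involutions.
-/

set_option autoImplicit false
set_option maxRecDepth 100000

namespace Cfsg.Agent.S3298Lib

open Equiv

/-- The points of the embedded group. -/
def pts (full : Bool) (i : Fin 13) : Prop := i.val < 8 ∨ (full = true ∧ i = 12)

instance (full : Bool) : DecidablePred (pts full) := fun i => by unfold pts; infer_instance

/-- Two transpositions of the first four points. -/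
def r4 : P13 := swap 0 1 * swap 2 3

theorem mem_H45_pts {full : Bool} {g : P13} :
    g ∈ H45 full ↔ Perm.sign g = 1 ∧ ∀ i, ¬ pts full i → g i = i := by
  have hpts : ∀ i : Fin 13, ¬ pts full i →
      (i = 8 ∨ i = 9 ∨ i = 10 ∨ i = 11) ∨ (full = false ∧ i = 12) := fun i h => by
    cases full <;> simp only [pts, Bool.false_eq_true, false_and, or_false, true_and, not_or] at h <;>
      revert h <;> revert i <;> decide
  simp only [H45, Subgroup.mem_inf, mem_fixingSubgroup_iff, Set.mem_insert_iff, Set.mem_singleton_iff,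
    Perm.smul_def]
  constructor
  · rintro ⟨h, hf⟩
    refine ⟨?_, fun i hi => ?_⟩
    · cases full
      · exact Perm.mem_alternatingGroup.1 (Subgroup.mem_inf.1 h).1
      · exact Perm.mem_alternatingGroup.1 h
    · rcases hpts i hi with h' | ⟨rfl, rfl⟩
      · exact hf i (by rcases h' with h' | h' | h' | h' <;> simp [h'])
      · exact (Subgroup.mem_inf.1 h).2
  · rintro ⟨hs, hf⟩
    refine ⟨?_, fun i hi => hf i ?_⟩
    · cases full
      · exact Subgroup.mem_inf.2 ⟨Perm.mem_alternatingGroup.2 hs,
          MulAction.mem_stabilizer_iff.2 (hf 12 (by decide))⟩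
      · exact Perm.mem_alternatingGroup.2 hs
    · cases full <;> rcases hi with rfl | rfl | rfl | rfl <;> decide

theorem card_pts : Fintype.card (Subtype (pts false)) = 8 ∧ Fintype.card (Subtype (pts true)) = 9 := by
  decide +kernel

/-- The group is the alternating group on its points. -/
theorem iso_H45 {full : Bool} {m : ℕ} (hm : Fintype.card (Subtype (pts full)) = m) :
    Nonempty (↥(alternatingGroup (Fin m)) ≃* ↥(H45 full)) := by
  set e : Fin m ≃ Subtype (pts full) := (Fintype.equivFinOfCardEq hm).symm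
  let f : Perm (Fin m) →* P13 := Perm.extendDomainHom e
  have hf : Function.Injective f := Perm.extendDomainHom_injective _
  have himg : (alternatingGroup (Fin m)).map f = H45 full := by
    ext g
    rw [Subgroup.mem_map, mem_H45_pts]
    constructor
    · rintro ⟨a, ha, rfl⟩
      exact ⟨(Perm.sign_extendDomain a e).trans (Perm.mem_alternatingGroup.1 ha),
        fun i hi => Perm.extendDomain_apply_not_subtype _ _ hi⟩
    · rintro ⟨hs, hfix⟩
      have hp : ∀ x, pts full (g x) ↔ pts full x := fun x => by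
        by_cases h : g x = x
        · rw [h]
        · refine iff_of_true ?_ ?_
          · by_contra hn
            exact h (g.injective (hfix _ hn))
          · by_contra hn
            exact h (hfix _ hn)
      let a : Perm (Fin m) := e.permCongr.symm (g.subtypePerm hp)
      have ha : f a = g := Equiv.ext fun x => by
        by_cases h : pts full x
        · show a.extendDomain e x = g x
          rw [Perm.extendDomain_apply_subtype (e := a) (f := e) h]
          simp [a, Equiv.permCongr_symm, Equiv.permCongr_apply]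
        · exact (Perm.extendDomain_apply_not_subtype _ _ h).trans (hfix x h).symm
      refine ⟨a, Perm.mem_alternatingGroup.2 ?_, ha⟩
      rw [← Perm.sign_extendDomain a e]
      exact (congrArg Perm.sign ha).trans hs
  exact ⟨((alternatingGroup (Fin m)).equivMapOfInjective f hf).trans (MulEquiv.subgroupCongr himg)⟩

theorem ss_facts : ∀ full, (Perm.sign ss = 1 ∧ (∀ i, ¬ pts full i → ss i = i) ∧ ss.support.card = 8 ∧
    ss * ss = 1 ∧ ss ≠ 1 ∧ swap 0 1 * ss = ss * swap 0 1) ∧
    (Perm.sign r4 = 1 ∧ (∀ i, ¬ pts full i → r4 i = i) ∧ r4.support.card = 4 ∧ r4 * r4 = 1 ∧ r4 ≠ 1 ∧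
      swap 0 1 * r4 = r4 * swap 0 1) ∧ ∀ i, ¬ pts full i → swap 0 1 i = i := by
  decide +kernel

/-- The involutions are conjugate to one of two representatives. -/
theorem classes {full : Bool} {g : ↥(H45 full)} (h2 : g.1 * g.1 = 1) (h1 : g.1 ≠ 1) :
    ∃ k : ↥(H45 full), (k.1 * g.1 * k.1⁻¹ = ss ∧ g.1.support.card = 8) ∨
      (k.1 * g.1 * k.1⁻¹ = r4 ∧ g.1.support.card = 4) := by
  obtain ⟨hs, hfix⟩ := mem_H45_pts.1 g.2
  obtain ⟨hcard, htype⟩ := cycleType_invol h2 h1 hs
  have h12 : g.1.support.card ≠ 12 := fun h => by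
    have hsub : g.1.support ⊆ (Finset.univ.filter fun i => pts full i) := fun i hi =>
      Finset.mem_filter.2 ⟨Finset.mem_univ _, by_contra fun hn => (Perm.mem_support.1 hi) (hfix i hn)⟩
    have h9 : ∀ f : Bool, (Finset.univ.filter fun i => pts f i).card < 10 := by decide +kernel
    have := Finset.card_le_card hsub
    have := h9 full
    omega
  obtain ⟨⟨as, af, ac, a2, a1, a01⟩, ⟨bs, bf, bc, b2, b1, b01⟩, sfix⟩ := ss_facts full
  have key : ∀ r : P13, Perm.sign r = 1 → (∀ i, ¬ pts full i → r i = i) → r * r = 1 → r ≠ 1 →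
      swap 0 1 * r = r * swap 0 1 → g.1.support.card = r.support.card →
      ∃ k : ↥(H45 full), k.1 * g.1 * k.1⁻¹ = r := by
    intro r rs rf r2 r1 r01 hc
    have hp : ∀ h : P13, (∀ i, ¬ pts full i → h i = i) → ∀ x, pts full (h x) ↔ pts full x := fun h hh x => by
      by_cases e : h x = x
      · rw [e]
      · refine iff_of_true ?_ ?_
        · by_contra hn
          exact e (h.injective (hh _ hn))
        · by_contra hn
          exact e (hh _ hn)
    have og : Perm.ofSubtype (g.1.subtypePerm (hp _ hfix)) = g.1 :=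
      Perm.ofSubtype_subtypePerm (hp _ hfix) fun x hx => by_contra fun hn => hx (hfix x hn)
    have or' : Perm.ofSubtype (r.subtypePerm (hp _ rf)) = r :=
      Perm.ofSubtype_subtypePerm (hp _ rf) fun x hx => by_contra fun hn => hx (rf x hn)
    have hconj : IsConj (g.1.subtypePerm (hp _ hfix)) (r.subtypePerm (hp _ rf)) := by
      rw [Perm.isConj_iff_cycleType_eq, ← Perm.cycleType_ofSubtype, og, ← Perm.cycleType_ofSubtype (p := pts full),
        or', htype, (cycleType_invol r2 r1 rs).2, hc]
    obtain ⟨c, hc'⟩ := isConj_iff.1 hconj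
    have hK : Perm.ofSubtype c * g.1 * (Perm.ofSubtype c)⁻¹ = r := by
      conv_lhs => rw [← og]
      rw [← map_inv, ← map_mul, ← map_mul, hc', or']
    have kfix : ∀ i, ¬ pts full i → Perm.ofSubtype c i = i := fun i hi => Perm.ofSubtype_apply_of_not_mem c hi
    rcases Int.units_eq_one_or (Perm.sign (Perm.ofSubtype c : P13)) with h | h
    · exact ⟨⟨_, mem_H45_pts.2 ⟨h, kfix⟩⟩, hK⟩
    · refine ⟨⟨swap 0 1 * Perm.ofSubtype c, mem_H45_pts.2 ⟨?_, fun i hi => ?_⟩⟩, ?_⟩
      · rw [map_mul, Perm.sign_swap (by decide), h]; rfl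
      · rw [Perm.mul_apply, kfix i hi, sfix i hi]
      · show swap 0 1 * Perm.ofSubtype c * g.1 * (swap 0 1 * Perm.ofSubtype c)⁻¹ = r
        rw [show ∀ s c : P13, s * c * g.1 * (s * c)⁻¹ = s * (c * g.1 * c⁻¹) * s⁻¹ from fun s c => by group, hK,
          r01, mul_inv_cancel_right]
  rcases hcard with h | h | h
  · obtain ⟨k, hk⟩ := key r4 bs bf b2 b1 b01 (h.trans bc.symm)
    exact ⟨k, Or.inr ⟨hk, h⟩⟩
  · obtain ⟨k, hk⟩ := key ss as af a2 a1 a01 (h.trans ac.symm)
    exact ⟨k, Or.inl ⟨hk, h⟩⟩
  · exact absurd h h12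

end Cfsg.Agent.S3298Lib
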