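import Cfsg.Agent.Lib.S3298.Std

/-!
S3298: codes of the signed permutations of six pairs that fix the last two pairs.
-/

set_option autoImplicit false
set_option maxRecDepth 100000

namespace Cfsg.Agent.S3298Lib

open Equiv S3298Fus SylClasses

/-- The permutations of the first four pairs. -/
def pp (j : Fin 24) : Perm (Fin 6) :=
  swap 0 ⟨j.val / 6, by omega⟩ * swap 1 ⟨1 + j.val / 2 % 3, by omega⟩ * swap 2 ⟨2 + j.val % 2, by omega⟩

/-- The flips of the first four pairs. -/
def vv (v : Fin 16) (i : Fin 6) : ZMod 2 := if v.val.testBit i.val then 1 else 0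

/-- The element of a code. -/
def el (n : ℕ) : W6 := ⟨vv (Fin.ofNat 16 (n / 24)), pp (Fin.ofNat 24 (n % 24))⟩

/-- The rows of the products of the permutations. -/
def mulRows : List ℕ :=
  [984818244535754528103549039458486304, 601679440805081570812320152034612225,
    944494360369381302799949671554908258, 258775987003707217836428035722743875,
    298893445427074801796596639603952804, 641752574545699963897324660563379333,
    813433314406028783335444902719037670, 516045921549227597164722820721487047,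
    773315855301219601824571193675716904, 1506052734682688207415924078520585,
    41623511078339015713230558656210282, 556163379456030291276044336126696779,
    858949374631949132852859900246079916, 87139572065412219196404786573886861,
    899022509054050403843080407353831918, 344409506334244500168574351896527311,
    384482639797940581239153104158932528, 127212705609094943551632980310373905,
    213008441133189201801284709216080498, 727548309510880477547509120656694867,
    172684556924618090307595095904996020, 429954491113463728069352112340589205,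
    470278375481883707455684975448970998, 687224425861264390600907573795835607]

/-- The rows of the action on the flips. -/
def actRows : List ℕ :=
  [18364758544493064720, 18364683486789906960, 18355225778678027280, 18355113192123290640,
    18336047660493215760, 18336085189344794640, 18297203519274627360, 18297128461571469600,
    18282904370552071200, 18282773019571545120, 18263707487941470240, 18263763781218838560,
    18147794320115196480, 18147662969134670400, 18152560703022715200, 18152448116467978560,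
    18119083436115347520, 18119064671689558080, 17858377336630846080, 17858433629908214400,
    17848844570815808640, 17848863335241598080, 17863162483964154240, 17863200012815733120]

/-- Products of permutation codes. -/
def pj (j k : ℕ) : ℕ := (mulRows.getD j 0 >>> (5 * k)) % 32

/-- Inverses of permutation codes. -/
def ij (j : ℕ) : ℕ := (387541608997517121818688053888321568 >>> (5 * j)) % 32

/-- The action on the flips. -/
def aj (j v : ℕ) : ℕ := (actRows.getD j 0 >>> (4 * v)) % 16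

/-- The fixed pairs of a permutation code. -/
def fx (j : ℕ) : ℕ := (1238119489800016455351474495 >>> (4 * j)) % 16

/-- Products of codes. -/
def tm (n m : ℕ) : ℕ := (n / 24 ^^^ aj (n % 24) (m / 24)) * 24 + pj (n % 24) (m % 24)

/-- Inverses of codes. -/
def ti (n : ℕ) : ℕ := aj (ij (n % 24)) (n / 24) * 24 + ij (n % 24)

theorem pj_spec : ∀ j k : Fin 24, pj j.val k.val < 24 ∧ pp j * pp k = pp (Fin.ofNat 24 (pj j.val k.val)) := by
  decide +kernel

theorem aj_spec : ∀ (j : Fin 24) (v : Fin 16), aj j.val v.val < 16 ∧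
    ∀ i, vv v ((pp j).symm i) = vv (Fin.ofNat 16 (aj j.val v.val)) i := by
  decide +kernel

theorem vv_add : ∀ (v w : Fin 16) (i : Fin 6), vv v i + vv w i = vv (Fin.ofNat 16 (v.val ^^^ w.val)) i := by
  decide +kernel

theorem xor_lt : ∀ v w : Fin 16, v.val ^^^ w.val < 16 := by decide +kernel

theorem ofNat24 {k : ℕ} (h : k < 24) : Fin.ofNat 24 k = ⟨k, h⟩ := Fin.ext (Nat.mod_eq_of_lt h)

theorem ofNat16 {k : ℕ} (h : k < 16) : Fin.ofNat 16 k = ⟨k, h⟩ := Fin.ext (Nat.mod_eq_of_lt h)

theorem tm_bounds {n m : ℕ} (hn : n < 384) (hm : m < 384) :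
    tm n m < 384 ∧ tm n m / 24 = n / 24 ^^^ aj (n % 24) (m / 24) ∧ tm n m % 24 = pj (n % 24) (m % 24) := by
  have h1 : pj (n % 24) (m % 24) < 24 :=
    (pj_spec ⟨n % 24, Nat.mod_lt _ (by norm_num)⟩ ⟨m % 24, Nat.mod_lt _ (by norm_num)⟩).1
  have h2 : aj (n % 24) (m / 24) < 16 :=
    (aj_spec ⟨n % 24, Nat.mod_lt _ (by norm_num)⟩ ⟨m / 24, by omega⟩).1
  have h3 : n / 24 ^^^ aj (n % 24) (m / 24) < 16 := xor_lt ⟨n / 24, by omega⟩ ⟨_, h2⟩
  unfold tm
  omega

theorem el_mul {n m : ℕ} (hn : n < 384) (hm : m < 384) : el n * el m = el (tm n m) := by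
  obtain ⟨-, ev, ep⟩ := tm_bounds hn hm
  have hn' : n % 24 < 24 := Nat.mod_lt _ (by norm_num)
  have hm' : m % 24 < 24 := Nat.mod_lt _ (by norm_num)
  have hnv : n / 24 < 16 := by omega
  have hmv : m / 24 < 16 := by omega
  refine W.ext (funext fun i => ?_) ?_
  · show vv (Fin.ofNat 16 (n / 24)) i + vv (Fin.ofNat 16 (m / 24)) ((pp (Fin.ofNat 24 (n % 24))).symm i) =
      vv (Fin.ofNat 16 (tm n m / 24)) i
    have h2 : aj (n % 24) (m / 24) < 16 := (aj_spec ⟨_, hn'⟩ ⟨_, hmv⟩).1
    rw [ev, ofNat16 hnv, ofNat16 hmv, ofNat24 hn', (aj_spec ⟨_, hn'⟩ ⟨_, hmv⟩).2, ofNat16 h2, vv_add]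
  · show pp (Fin.ofNat 24 (n % 24)) * pp (Fin.ofNat 24 (m % 24)) = pp (Fin.ofNat 24 (tm n m % 24))
    rw [ep, ofNat24 hn', ofNat24 hm', (pj_spec ⟨_, hn'⟩ ⟨_, hm'⟩).2]

theorem el_zero : el 0 = 1 := by decide +kernel

theorem ti_spec : ∀ n < 384, ti n < 384 ∧ tm n (ti n) = 0 := by decide +kernel

theorem el_ti {n : ℕ} (hn : n < 384) : el (ti n) = (el n)⁻¹ := by
  refine eq_inv_of_mul_eq_one_right ?_
  rw [el_mul hn (ti_spec n hn).1, (ti_spec n hn).2, el_zero]

theorem vv_inj : ∀ v w : Fin 16, vv v = vv w → v = w := by decide +kernel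

theorem pp_inj : ∀ j k : Fin 24, pp j = pp k → j = k := by decide +kernel

theorem el_inj {n m : ℕ} (hn : n < 384) (hm : m < 384) (h : el n = el m) : n = m := by
  have h1 := congrArg Fin.val (vv_inj _ _ (congrArg W.v h))
  have h2 := congrArg Fin.val (pp_inj _ _ (congrArg W.p h))
  simp only [Fin.val_ofNat] at h1 h2
  omega

theorem el_fixes (n : ℕ) : ((el n).v 4 = 0 ∧ (el n).v 5 = 0) ∧ (el n).p 4 = 4 ∧ (el n).p 5 = 5 :=
  (by decide +kernel : ∀ (v : Fin 16) (j : Fin 24),
    (vv v 4 = 0 ∧ vv v 5 = 0) ∧ pp j 4 = 4 ∧ pp j 5 = 5) _ _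

theorem pp_surj : ∀ a b c d : Fin 4, a ≠ b → a ≠ c → a ≠ d → b ≠ c → b ≠ d → c ≠ d →
    ∃ j, pp j 0 = a.castLE (by norm_num) ∧ pp j 1 = b.castLE (by norm_num) ∧ pp j 2 = c.castLE (by norm_num) ∧
      pp j 3 = d.castLE (by norm_num) := by
  decide +kernel

theorem vv_surj : ∀ a b c d : ZMod 2, ∃ v, vv v 0 = a ∧ vv v 1 = b ∧ vv v 2 = c ∧ vv v 3 = d := by decide +kernel

theorem vv_fix : ∀ v : Fin 16, vv v 4 = 0 ∧ vv v 5 = 0 := by decide +kernel

theorem pp_fix : ∀ j : Fin 24, pp j 4 = 4 ∧ pp j 5 = 5 := by decide +kernel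

/-- The elements fixing the last two pairs pointwise are those of the codes. -/
theorem exists_el {w : W6} (h4 : w.v 4 = 0) (h5 : w.v 5 = 0) (q4 : w.p 4 = 4) (q5 : w.p 5 = 5) :
    ∃ n < 384, el n = w := by
  have hlt : ∀ i : Fin 6, i.val < 4 → (w.p i).val < 4 := fun i hi => by
    have a4 : w.p i ≠ 4 := fun e => by
      have := w.p.injective (e.trans q4.symm)
      subst this; exact absurd hi (by decide)
    have a5 : w.p i ≠ 5 := fun e => by
      have := w.p.injective (e.trans q5.symm)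
      subst this; exact absurd hi (by decide)
    have b4 := Fin.val_ne_of_ne a4
    have b5 := Fin.val_ne_of_ne a5
    simp at b4 b5
    omega
  have hne : ∀ (i k : Fin 6) (hi : i.val < 4) (hk : k.val < 4), i ≠ k →
      (⟨_, hlt i hi⟩ : Fin 4) ≠ ⟨_, hlt k hk⟩ := fun i k hi hk hik e =>
    hik (w.p.injective (Fin.ext (congrArg Fin.val e :)))
  obtain ⟨j, j0, j1, j2, j3⟩ := pp_surj ⟨_, hlt 0 (by decide)⟩ ⟨_, hlt 1 (by decide)⟩ ⟨_, hlt 2 (by decide)⟩
    ⟨_, hlt 3 (by decide)⟩ (hne 0 1 (by decide) (by decide) (by decide)) (hne 0 2 (by decide) (by decide) (by decide))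
    (hne 0 3 (by decide) (by decide) (by decide)) (hne 1 2 (by decide) (by decide) (by decide))
    (hne 1 3 (by decide) (by decide) (by decide)) (hne 2 3 (by decide) (by decide) (by decide))
  obtain ⟨v, v0, v1, v2, v3⟩ := vv_surj (w.v 0) (w.v 1) (w.v 2) (w.v 3)
  refine ⟨v.val * 24 + j.val, by omega, ?_⟩
  have e1 : Fin.ofNat 24 ((v.val * 24 + j.val) % 24) = j := Fin.ext (by simp only [Fin.val_ofNat]; omega)
  have e2 : Fin.ofNat 16 ((v.val * 24 + j.val) / 24) = v := Fin.ext (by simp only [Fin.val_ofNat]; omega)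
  refine W.ext (funext fun i => ?_) (Equiv.ext fun i => ?_)
  · show vv (Fin.ofNat 16 ((v.val * 24 + j.val) / 24)) i = w.v i
    rw [e2]
    fin_cases i
    exacts [v0, v1, v2, v3, (vv_fix v).1.trans h4.symm, (vv_fix v).2.trans h5.symm]
  · show pp (Fin.ofNat 24 ((v.val * 24 + j.val) % 24)) i = w.p i
    rw [e1]
    fin_cases i
    exacts [j0.trans (Fin.ext rfl), j1.trans (Fin.ext rfl), j2.trans (Fin.ext rfl), j3.trans (Fin.ext rfl),
      (pp_fix j).1.trans q4.symm, (pp_fix j).2.trans q5.symm]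

/-- Even flips. -/
def evn (n : ℕ) : Bool := [0, 3, 5, 6, 9, 10, 12, 15].contains (n / 24)

theorem par_vv : ∀ v : Fin 16, (∑ i, vv v i = 0) ↔ v.val ∈ [0, 3, 5, 6, 9, 10, 12, 15] := by decide +kernel

theorem par_el {n : ℕ} (hn : n < 384) : W.par (el n) = 0 ↔ evn n = true := by
  rw [evn, List.contains_iff_mem]
  show ∑ i, vv (Fin.ofNat 16 (n / 24)) i = 0 ↔ _
  rw [ofNat16 (show n / 24 < 16 by omega), par_vv]

/-- The code of the flip of the first four pairs. -/
def sC : ℕ := 360

/-- The codes of four generators. -/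
def gC : Fin 4 → ℕ := ![288, 6, 2, 1]

/-- Words in the generators, five to a digit. -/
def wd : List ℕ :=
  [0, 4, 3, 23, 98, 19, 2, 14, 17, 117, 492, 89, 67, 367, 13, 73, 448, 2242, 1742, 339, 8492, 1698, 348, 69, 0,
    0, 0, 0, 0, 0, 0, 0, 0, 0, 0, 0, 0, 0, 0, 0, 0, 0, 0, 0, 0, 0, 0, 0, 0, 0, 0, 0, 0, 0, 0, 0, 0, 0, 0, 0, 0,
    0, 0, 0, 0, 0, 0, 0, 0, 0, 0, 0, 207913, 1039569, 23942, 41698, 207948, 119714, 51663, 258319, 4788, 24788,
    123944, 23944, 1038, 6038, 5192, 10448, 1073, 5367, 30194, 5194, 24117, 4823, 51698, 25964, 0, 0, 0, 0, 0,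
    0, 0, 0, 0, 0, 0, 0, 0, 0, 0, 0, 0, 0, 0, 0, 0, 0, 0, 0, 4792, 8339, 41582, 229082, 229089, 41589, 1042,
    2089, 207, 1207, 1117, 214, 957, 4957, 10332, 72832, 25991, 51832, 4867, 964, 51742, 25973, 72839, 10339,
    208, 419, 41, 241, 223, 44, 958, 1669, 8316, 45816, 45819, 8319, 2066, 14566, 191, 991, 10366, 61441, 14569,
    2069, 61444, 10348, 973, 194, 0, 0, 0, 0, 0, 0, 0, 0, 0, 0, 0, 0, 0, 0, 0, 0, 0, 0, 0, 0, 0, 0, 0, 0, 0, 0,
    0, 0, 0, 0, 0, 0, 0, 0, 0, 0, 0, 0, 0, 0, 0, 0, 0, 0, 0, 0, 0, 0, 1667, 9167, 8317, 45817, 280192, 56042,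
    417, 2917, 42, 242, 2117, 1039, 192, 992, 2067, 14567, 5198, 10367, 8367, 4789, 41617, 23948, 258323, 51664,
    83, 583, 8, 48, 423, 209, 333, 1833, 1663, 9163, 56038, 11208, 413, 2913, 38, 198, 2073, 12288, 72834,
    10334, 43538, 8323, 1673, 959, 0, 0, 0, 0, 0, 0, 0, 0, 0, 0, 0, 0, 0, 0, 0, 0, 0, 0, 0, 0, 0, 0, 0, 0, 1, 9,
    16, 116, 491, 84, 7, 39, 82, 582, 2457, 414, 332, 1832, 66, 366, 2241, 11207, 8707, 1664, 42457, 8491, 1741,
    334, 0, 0, 0, 0, 0, 0, 0, 0, 0, 0, 0, 0, 0, 0, 0, 0, 0, 0, 0, 0, 0, 0, 0, 0, 0, 0, 0, 0, 0, 0, 0, 0, 0, 0,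
    0, 0, 0, 0, 0, 0, 0, 0, 0, 0, 0, 0, 0, 0, 598538, 1042458, 119707, 208491, 670817, 134167, 129788, 261208,
    23941, 123941, 134163, 26833, 5191, 30191, 25957, 52241, 5366, 26832, 150959, 25959, 120582, 24116, 258491,
    129789]

/-- The type of a code: one, the two classes of involutions, the rest. -/
def cls (n : ℕ) : ℕ :=
  if n = 0 then 0 else if tm n n = 0 then (if n / 24 &&& fx (n % 24) = fx (n % 24) then 2 else 1) else 3

end Cfsg.Agent.S3298Lib
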