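import Cfsg.Agent.Lib.S3298.Loc.Quot

/-!
S3298: the quotient of the centraliser of the four-group is an alternating group of degree eight or nine.
-/

set_option autoImplicit false
set_option maxRecDepth 100000
set_option linter.unusedSectionVars false

namespace Cfsg.Agent.S3298Lib

open S3298Fus SylClasses Subgroup

/-- The search for elementary subgroups of order sixteen over the centre in the second table. -/
def sixteenChk : Bool :=
  let T := S3Extra.T true
  (List.range 192).all fun i => i == 0 || i == 1 || T i i != 0 || (List.range 192).all fun j =>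
    T j j != 0 || T i j != T j i || [0, 1, i, T 1 i].contains j || (List.range 192).all fun k =>
      T k k != 0 || T i k != T k i || T j k != T k j ||
        [0, 1, i, j, T 1 i, T 1 j, T i j, T 1 (T i j)].contains k

theorem sixteenChk_ok : sixteenChk = true := by decide +kernel

/-- The table of the second type has no elementary subgroup of order sixteen over the centre. -/
theorem no_sixteen {i : ℕ} (hi : i < 192) (i0 : i ≠ 0) (i1 : i ≠ 1) (ii : S3Extra.T true i i = 0) {j : ℕ}
    (hj : j < 192) (jj : S3Extra.T true j j = 0) (ij : S3Extra.T true i j = S3Extra.T true j i) (j0 : j ≠ 0)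
    (j1 : j ≠ 1) (ji : j ≠ i) (j2 : j ≠ S3Extra.T true 1 i) {k : ℕ} (hk : k < 192)
    (kk : S3Extra.T true k k = 0) (ik : S3Extra.T true i k = S3Extra.T true k i)
    (jk : S3Extra.T true j k = S3Extra.T true k j) :
    k = 0 ∨ k = 1 ∨ k = i ∨ k = j ∨ k = S3Extra.T true 1 i ∨ k = S3Extra.T true 1 j ∨
      k = S3Extra.T true i j ∨ k = S3Extra.T true 1 (S3Extra.T true i j) := by
  have h := sixteenChk_ok
  simp only [sixteenChk, List.all_eq_true, List.mem_range, Bool.or_eq_true, beq_iff_eq, bne_iff_ne, ne_eq,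
    List.contains_iff_mem, List.mem_cons, List.not_mem_nil, or_false] at h
  obtain ((h | h) | h) | h := h i hi
  · exact absurd h i0
  · exact absurd h i1
  · exact absurd ii h
  obtain ((h | h) | h) | h := h j hj
  · exact absurd jj h
  · exact absurd ij h
  · rcases h with h | h | h | h
    exacts [absurd h j0, absurd h j1, absurd h ji, absurd h j2]
  obtain ((h | h) | h) | h := h k hk
  · exact absurd kk h
  · exact absurd ik h
  · exact absurd jk h
  · exact h

set_option synthInstance.maxSize 10000 in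
/-- The involutions of the first type up to conjugation in the table. -/
theorem invol_reps : ∀ i < 192, S3Extra.isInv i = true → i < 8 ∨ ∃ y < 192, S3Extra.cj y i = 8 ∨
  S3Extra.cj y i = 11 ∨ S3Extra.cj y i = 32 ∨ S3Extra.cj y i = 33 := by
  decide +kernel

variable {G : Type*} [Group G] [Finite G] (d : Dat G)

theorem L'_32 : L' 32 = a45 := by decide +kernel

theorem L'_4 : L' 4 = b45 := by decide +kernel

theorem L'_24 : L' 24 = ev sC := by decide +kernel

theorem L'_comm (a b : Fin 64) : L' a * L' b = L' b * L' a := Subtype.ext (W.std_comm (L_mem a) (L_mem b))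

theorem L'_mem_CV (n : Fin 64) : d.emb (L' n) ∈ CV d :=
  emb_mem_CV d (L'_32 ▸ L'_comm n 32) (L'_4 ▸ L'_comm n 4)

/-- The standard elementary subgroup in the quotient. -/
def qA (n : Fin 64) : CQ d := QuotientGroup.mk' (fourV d) ⟨d.emb (L' n), L'_mem_CV d n⟩

theorem qA_mul (a b : Fin 64) : qA d (xr a b) = qA d a * qA d b := by
  rw [qA, qA, qA, ← map_mul]
  congr 1
  exact Subtype.ext (by rw [Subgroup.coe_mul]; simp only []; rw [← map_mul, ← L'_mul]; rfl)

theorem qA_comm (a b : Fin 64) : qA d a * qA d b = qA d b * qA d a := by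
  rw [← qA_mul, ← qA_mul]
  exact congrArg (qA d) ((by decide +kernel : ∀ a b : Fin 64, xr a b = xr b a) a b)

theorem qA_one_iff (n : Fin 64) : qA d n = 1 ↔ n = 0 ∨ n = 4 ∨ n = 32 ∨ n = 36 := by
  rw [qA, QuotientGroup.mk'_apply, QuotientGroup.eq_one_iff]
  constructor
  · rintro ⟨i, hi⟩
    have e : vx i = L' n := d.inj (congrArg Subtype.val hi)
    exact (by decide +kernel : ∀ (i : Fin 4) (n : Fin 64), vx i = L' n → n = 0 ∨ n = 4 ∨ n = 32 ∨ n = 36) i n e
  · intro h
    obtain ⟨i, hi⟩ := (by decide +kernel : ∀ n : Fin 64, (n = 0 ∨ n = 4 ∨ n = 32 ∨ n = 36) →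
      ∃ i : Fin 4, vx i = L' n) n h
    exact ⟨i, Subtype.ext (congrArg d.emb hi)⟩

theorem qA_sq (n : Fin 64) : qA d n * qA d n = 1 := by
  rw [← qA_mul, qA_one_iff]
  exact Or.inl ((by decide +kernel : ∀ n : Fin 64, xr n n = 0) n)

theorem qA_24 : qA d 24 = sQ d := by
  rw [qA, sQ, em_eq d isC_sC]
  congr 1
  exact Subtype.ext (congrArg d.emb L'_24)

variable (hd : ∀ a, d.Fused a ↔ a * a = 1 ∧ Dat.P27 a.1)
include hd

/-- The two cycles act on the quotient. -/
theorem exists_cycle (k : Fin 3) (hk : k ≠ 2) : ∃ g : CQ d, ∀ n, g * qA d n * g⁻¹ = qA d (cyc k n) := by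
  obtain ⟨m, hm⟩ := exists_mover hd k
  have hfix : cyc k 32 = 32 ∧ cyc k 4 = 4 :=
    (by decide +kernel : ∀ k : Fin 3, k ≠ 2 → cyc k 32 = 32 ∧ cyc k 4 = 4) k hk
  have hmC : m ∈ CV d := by
    have ha := hm 32
    have hb := hm 4
    rw [hfix.1, L'_32] at ha
    rw [hfix.2, L'_4] at hb
    exact (mem_CV d).2 ⟨mul_inv_eq_iff_eq_mul.1 ha, mul_inv_eq_iff_eq_mul.1 hb⟩
  refine ⟨QuotientGroup.mk' (fourV d) ⟨m, hmC⟩, fun n => ?_⟩
  rw [qA, qA, ← map_inv, ← map_mul, ← map_mul]
  congr 1
  exact Subtype.ext (hm n)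

/-- Conjugates of the involution in the elementary subgroup. -/
theorem conj_nine {n : Fin 64}
    (h : n ∈ ([24, 17, 25, 10, 3, 11, 26, 19, 27] : List (Fin 64))) : IsConj (sQ d) (qA d n) := by
  obtain ⟨g, hg⟩ := exists_cycle d hd 0 (by decide)
  obtain ⟨h', hh'⟩ := exists_cycle d hd 1 (by decide)
  obtain ⟨i, j, hij⟩ := (by decide +kernel : ∀ n : Fin 64,
    n ∈ ([24, 17, 25, 10, 3, 11, 26, 19, 27] : List (Fin 64)) →
      ∃ i j : Fin 3, (cyc 0)^[i.val] ((cyc 1)^[j.val] 24) = n) n h
  have step : ∀ (k : CQ d) (f : Fin 64 → Fin 64), (∀ n, k * qA d n * k⁻¹ = qA d (f n)) →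
      ∀ i n, IsConj (qA d n) (qA d (f^[i] n)) := by
    intro k f hk i
    induction i with
    | zero => exact fun n => IsConj.refl _
    | succ i ih =>
      intro n
      rw [Function.iterate_succ_apply']
      exact (ih n).trans (isConj_iff.2 ⟨k, hk _⟩)
  rw [← hij, ← qA_24]
  exact (step h' _ hh' _ _).trans (step g _ hg _ _)

/-- The quotient. -/
theorem iso_alt : Nonempty (CQ d ≃* alternatingGroup (Fin 8)) ∨ Nonempty (CQ d ≃* alternatingGroup (Fin 9)) := by
  classical
  have H := hypQ d hd
  have h3 : qA d 3 = em d 7 := by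
    rw [qA, em_eq d isC_L.1]
    congr 1
    exact Subtype.ext (congrArg d.emb ((by decide +kernel : L' 3 = ev 7)))
  obtain ⟨g, hg⟩ := isConj_iff.1 (conj_nine d hd (n := 3) (by decide))
  obtain ⟨P, δ, hPs, F, hPQ⟩ := H.exists_frame (g := g)
    (by rw [hg, h3]; exact (em_mem_qQ d isC_L.1).2 (by decide))
    (by rw [hg, h3]; exact fun e => absurd (em_inj d isC_L.1 isC_sC e) (by decide))
  have hidx : ∀ n : Fin 64, ∃ i < 192, P.el i = qA d n := fun n =>
    (F.mem _).1 (by rw [hPs, ← qA_24]; exact qA_comm d n 24)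
  choose ix hix hixe using hidx
  have hne : ∀ a b : Fin 64, xr a b ∉ ([0, 4, 32, 36] : List (Fin 64)) → ix a ≠ ix b := by
    intro a b h e
    have e' : qA d a = qA d b := by rw [← hixe, ← hixe, e]
    refine h ?_
    have h1 : qA d (xr a b) = 1 := by rw [qA_mul, e', qA_sq]
    simpa using (qA_one_iff d _).1 h1
  cases δ with
  | true =>
    exfalso
    have h1 : ix 24 = 1 := F.inj _ (hix 24) 1 (by norm_num) (by rw [hixe, qA_24, S3Extra.el_one, hPs])
    have hT : ∀ a b, S3Extra.T true (ix a) (ix b) = ix (xr a b) := fun a b => F.inj _ (F.rels.el_mul (hix b)).2 _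
      (hix _) (by rw [← (F.rels.el_mul (hix b)).1, hixe, hixe, hixe, qA_mul])
    have h00 : ix 0 = 0 := F.inj _ (hix 0) 0 (by norm_num) (by
      rw [hixe, F.rels.el_zero, qA_one_iff]
      exact Or.inl rfl)
    have sq : ∀ a, S3Extra.T true (ix a) (ix a) = 0 := fun a => by
      rw [hT, (by decide +kernel : ∀ a : Fin 64, xr a a = 0) a, h00]
    have cm : ∀ a b, S3Extra.T true (ix a) (ix b) = S3Extra.T true (ix b) (ix a) := fun a b => by
      rw [hT, hT, (by decide +kernel : ∀ a b : Fin 64, xr a b = xr b a) a b]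
    have key := no_sixteen (hix 1) (h00 ▸ hne 1 0 (by decide +kernel)) (h1 ▸ hne 1 24 (by decide +kernel)) (sq 1)
      (hix 2) (sq 2) (cm 1 2) (h00 ▸ hne 2 0 (by decide +kernel)) (h1 ▸ hne 2 24 (by decide +kernel))
      (hne 2 1 (by decide +kernel)) (by rw [← h1, hT]; exact hne _ _ (by decide +kernel))
      (hix 8) (sq 8) (cm 1 8) (cm 2 8)
    rw [← h00, ← h1, hT, hT, hT, hT] at key
    rcases key with e | e | e | e | e | e | e | e <;> exact hne _ _ (by decide +kernel) e
  | false =>
    have C := S3Extra.ctype_of_frame (hPs.symm ▸ H) F hPQ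
    have one : ∀ {P : S3Extra.Gens (CQ d)}, S3Extra.CType (qQ d) P → IsConj P.s (P.el 8) →
        ¬ IsConj P.s (P.el 11) →
        Nonempty (CQ d ≃* alternatingGroup (Fin 8)) ∨ Nonempty (CQ d ≃* alternatingGroup (Fin 9)) :=
      fun C h8 h11 => by
        obtain ⟨P', -, O⟩ := S3Extra.exists_one C h8 h11
        exact O.alternating
    by_cases h8 : IsConj P.s (P.el 8)
    · by_cases h11 : IsConj P.s (P.el 11)
      · exact (C.case_two h8 h11).elim
      · exact one C h8 h11
    · by_cases h11 : IsConj P.s (P.el 11)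
      · obtain ⟨C', hel⟩ := C.change S3Extra.flipB S3Extra.ok_flips.2.1
          (S3Extra.sg_flips.2.1.1.symm ▸ C.fused)
        have hs' : (P.change S3Extra.flipB).s = P.s := S3Extra.el_one P
        obtain ⟨-, e8, e11, -⟩ := S3Extra.sg_flips.2.1
        exact one C' (by rwa [hs', hel, e8]) (by rwa [hs', hel, e11])
      · exfalso
        have h32 : ¬ IsConj P.s (P.el 32) ∧ ¬ IsConj P.s (P.el 33) := by
          rcases C.pairing with ⟨a, b⟩ | ⟨a, b⟩
          · exact ⟨fun h => h8 (h.trans a.symm), fun h => h11 (h.trans b.symm)⟩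
          · exact ⟨fun h => h11 (h.trans b.symm), fun h => h8 (h.trans a.symm)⟩
        have hw := invol_reps
        have hX : ∀ i < 192, IsConj P.s (P.el i) → i < 8 := by
          intro i hi h
          have hinv : S3Extra.isInv i = true := (C.orderOf_el hi).1 (by
            obtain ⟨k, hk⟩ := isConj_iff.1 h
            rw [← hk, ← MulAut.conj_apply, MulEquiv.orderOf_eq, C.hyp.s_two])
          rcases hw i hi hinv with h' | ⟨y, hy, hc⟩
          · exact h'
          · have hw' := h.trans (C.conj_of_wit hi hy rfl)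
            rcases hc with e | e | e | e <;> rw [e] at hw'
            exacts [absurd hw' h8, absurd hw' h11, absurd hw' h32.1, absurd hw' h32.2]
        let nine : Fin 9 → Fin 64 := ![24, 17, 25, 10, 3, 11, 26, 19, 27]
        have hsmall : ∀ k, ix (nine k) < 8 := fun k => hX _ (hix _) (by
          rw [hPs, hixe]
          exact conj_nine d hd
            ((by decide +kernel : ∀ k : Fin 9, (![24, 17, 25, 10, 3, 11, 26, 19, 27] : Fin 9 → Fin 64) k ∈
              ([24, 17, 25, 10, 3, 11, 26, 19, 27] : List (Fin 64))) k))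
        have hinj : Function.Injective fun k => (⟨ix (nine k), hsmall k⟩ : Fin 8) := by
          intro a b e
          by_contra hab
          exact hne _ _ ((by decide +kernel : ∀ a b : Fin 9, a ≠ b →
            xr ((![24, 17, 25, 10, 3, 11, 26, 19, 27] : Fin 9 → Fin 64) a)
              ((![24, 17, 25, 10, 3, 11, 26, 19, 27] : Fin 9 → Fin 64) b) ∉ ([0, 4, 32, 36] : List (Fin 64))) a b hab)
            (congrArg Fin.val e)
        have := Fintype.card_le_of_injective _ hinj
        simp at this

end Cfsg.Agent.S3298Lib
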