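import Cfsg.Agent.Lib.S3298.Loc.Psi
import Cfsg.Agent.Lib.S3298.LocalX.Assemble

/-!
S3298: the local data of the alternating branch.
-/

set_option autoImplicit false

namespace Cfsg.Agent.S3298Lib

open S3298Fus

/-- The local data exist in the alternating case. -/
theorem exists_local {G : Type*} [Group G] [Finite G] {d : Dat G}
    (hd : ∀ a, d.Fused a ↔ a * a = 1 ∧ Dat.P27 a.1) : Nonempty (Local d) := by
  obtain ⟨full, ψ, hinj, agree, ca, cb, hle, hodd, hcls⟩ := exists_psi d hd
  exact local_of_psi hd ψ hinj agree ca cb hle hodd hcls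

end Cfsg.Agent.S3298Lib
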