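import Cfsg.Agent.Lib.S3298Fus.Fusion

/-!
S3298: the symmetries of the codes preserving the fused ones, and elements of order three on one block.
-/

set_option autoImplicit false
set_option maxRecDepth 100000

namespace Cfsg.Agent.S3298Lib

open S3298Fus SylClasses

/-- The fused codes of the alternating case. -/
def fb (n : Fin 64) : Bool := sel 116 n

/-- The bit of a code. -/
def pick (a : Fin 64) (i : Fin 6) (c : Fin 64) : Fin 64 := if a.val.testBit i.val then c else 0

/-- The basis of the codes. -/
def bas : Fin 6 → Fin 64 := ![1, 2, 4, 8, 16, 32]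

/-- The additive map with given images of the basis. -/
def lin (im : Fin 6 → Fin 64) (a : Fin 64) : Fin 64 :=
  xr (pick a 0 (im 0)) (xr (pick a 1 (im 1)) (xr (pick a 2 (im 2))
    (xr (pick a 3 (im 3)) (xr (pick a 4 (im 4)) (pick a 5 (im 5))))))

theorem lin_bas : ∀ a, lin bas a = a := by decide +kernel

theorem additive_zero {φ : Fin 64 → Fin 64} (h : ∀ a b, φ (xr a b) = xr (φ a) (φ b)) : φ 0 = 0 := by
  have e := h 0 0
  rw [(by decide +kernel : ∀ c : Fin 64, xr c c = 0) (φ 0)] at e
  exact e

/-- An additive map is given by its values on the basis. -/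
theorem lin_eq {φ : Fin 64 → Fin 64} (h : ∀ a b, φ (xr a b) = xr (φ a) (φ b)) (a : Fin 64) :
    φ a = lin (fun i => φ (bas i)) a := by
  have hp : ∀ i c, φ (pick a i c) = pick a i (φ c) := fun i c => by
    unfold pick
    split_ifs
    · rfl
    · exact additive_zero h
  conv_lhs => rw [← lin_bas a]
  unfold lin
  rw [h, h, h, h, h, hp, hp, hp, hp, hp, hp]

/-- The codes in one block. -/
def w1 : List (Fin 64) := [1, 2, 4, 8, 9, 16, 18, 32, 36]

theorem mem_w1_iff : ∀ n : Fin 64, n ∈ w1 ↔ cnt fb n = 18 := by decide +kernel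

/-- The possible images of the two generators of a block. -/
def blockImages : List (Fin 64 × Fin 64) :=
  (w1.flatMap fun a => w1.map fun c => (a, c)).filter fun p => decide (xr p.1 p.2 ∈ w1)

/-- The images of the basis under a block permutation followed by flips, six bits each. -/
def genCode : List Nat :=
  [34630287489, 34630288521, 34630418569, 34630419585, 34498166850, 34498167378, 34498297938, 34498298434,
    17718845697, 17718847753, 17718911241, 17718913281, 8866762884, 8866763940, 8866795684, 8866796676,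
    9131004162, 9131006226, 9131036946, 9131038978, 17322483780, 17322484324, 17322549348, 17322549828]

/-- The action of a block permutation followed by flips on the codes. -/
def gc (k : Fin 24) : Fin 64 → Fin 64 := lin fun i => Fin.ofNat 64 (genCode.getD k.val 0 >>> (6 * i.val))

theorem gc_spec : ∀ k n, gen k * L n = L (gc k n) * gen k := by decide +kernel

/-- The three-cycle on the four-group of a block. -/
def cyc : Fin 3 → Fin 64 → Fin 64 :=
  ![lin ![9, 2, 4, 1, 16, 32], lin ![1, 18, 4, 8, 2, 32], lin ![1, 2, 36, 8, 16, 4]]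

theorem cyc_fused : ∀ k, fb (cyc k 56) = true := by decide +kernel

theorem gc_add : ∀ g x y, gc g (xr x y) = xr (gc g x) (gc g y) := by decide +kernel

theorem cyc_add : ∀ k x y, cyc k (xr x y) = xr (cyc k x) (cyc k y) := by decide +kernel

/-- Fourth power of a composite. -/
def pow4 (f : Fin 64 → Fin 64) (a : Fin 64) : Fin 64 := f (f (f (f a)))

/-- The exhaustive search. -/
def search (k : Fin 3) : Bool :=
  blockImages.all fun p0 => blockImages.all fun p1 => blockImages.all fun p2 =>
    let im : Fin 6 → Fin 64 := ![p0.1, p1.1, p2.1, p0.2, p1.2, p2.2]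
    !(lin im 56 == cyc k 56) || !((List.finRange 64).all fun a => fb (lin im a) == fb a) ||
      (List.finRange 24).any fun g =>
        (List.finRange 6).all fun i => pow4 (fun a => lin im (gc g a)) (bas i) == cyc k (bas i)

theorem search_ok : ∀ k, search k = true := by decide +kernel

/-- A symmetry moving the all-flip as the cycle does is the cycle up to the normalisation. -/
theorem exists_gc {φ : Fin 64 → Fin 64} (hb : Function.Bijective φ) (hadd : ∀ a b, φ (xr a b) = xr (φ a) (φ b))
    (hF : ∀ a, fb (φ a) = fb a) {k : Fin 3} (hk : φ 56 = cyc k 56) :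
    ∃ g, ∀ a, pow4 (fun a => φ (gc g a)) a = cyc k a := by
  have hw : ∀ n ∈ w1, φ n ∈ w1 := fun n hn => by
    rw [mem_w1_iff] at hn ⊢
    rw [cnt_equiv hb hadd hF, hn]
  have hmem : ∀ a c : Fin 64, a ∈ w1 → c ∈ w1 → xr a c ∈ w1 → (φ a, φ c) ∈ blockImages := fun a c ha hc hac => by
    unfold blockImages
    rw [List.mem_filter, List.mem_flatMap]
    refine ⟨⟨φ a, hw a ha, List.mem_map.2 ⟨φ c, hw c hc, rfl⟩⟩, decide_eq_true ?_⟩
    show xr (φ a) (φ c) ∈ w1
    rw [← hadd]
    exact hw _ hac
  have h0 := List.all_eq_true.1 (search_ok k) _ (hmem 1 8 (by decide) (by decide) (by decide))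
  have h1 := List.all_eq_true.1 h0 _ (hmem 2 16 (by decide) (by decide) (by decide))
  have h2 := List.all_eq_true.1 h1 _ (hmem 4 32 (by decide) (by decide) (by decide))
  set im : Fin 6 → Fin 64 := ![φ 1, φ 2, φ 4, φ 8, φ 16, φ 32] with him
  have e : ∀ a, φ a = lin im a := fun a => by
    rw [lin_eq hadd a]
    refine congrArg (fun f => lin f a) (funext fun i => ?_)
    fin_cases i <;> rfl
  change (!(lin im 56 == cyc k 56) || !((List.finRange 64).all fun a => fb (lin im a) == fb a) ||
    (List.finRange 24).any fun g =>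
      (List.finRange 6).all fun i => pow4 (fun a => lin im (gc g a)) (bas i) == cyc k (bas i)) = true at h2
  rw [Bool.or_eq_true, Bool.or_eq_true] at h2
  rcases h2 with (h2 | h2) | h2
  · simp [← e, hk] at h2
  · simp [← e, hF] at h2
  · obtain ⟨g, -, hg⟩ := List.any_eq_true.1 h2
    refine ⟨g, fun a => ?_⟩
    have hpl : ∀ x y, pow4 (fun a => φ (gc g a)) (xr x y) =
        xr (pow4 (fun a => φ (gc g a)) x) (pow4 (fun a => φ (gc g a)) y) := fun x y => by
      simp only [pow4, gc_add, hadd]
    rw [lin_eq hpl a, lin_eq (cyc_add k) a]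
    refine congrArg (fun f => lin f a) (funext fun i => ?_)
    have h := List.all_eq_true.1 hg i (List.mem_finRange i)
    rw [beq_iff_eq] at h
    rw [← h]
    simp only [pow4, e]

variable {G : Type*} [Group G]

theorem fused_code {d : Dat G} (hd : ∀ a, d.Fused a ↔ a * a = 1 ∧ Dat.P27 a.1) (n : Fin 64) :
    d.Fused (L' n) ↔ fb n = true := by
  rw [hd, fb, (Dat.table27 n).1]
  exact and_iff_right (L'_sq n)

/-- An element of order three on one block of the standard subgroup, fixing the other two. -/
theorem exists_mover {d : Dat G} (hd : ∀ a, d.Fused a ↔ a * a = 1 ∧ Dat.P27 a.1) (k : Fin 3) :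
    ∃ m : G, ∀ a, m * d.emb (L' a) * m⁻¹ = d.emb (L' (cyc k a)) := by
  obtain ⟨φ, hb, hadd, hF, h56, m, hm⟩ := d.exists_symmetry_conj ((fused_code hd _).2 (cyc_fused k))
  obtain ⟨g, hg⟩ := exists_gc hb hadd
    (fun a => Bool.eq_iff_iff.2 ((fused_code hd _).symm.trans ((hF a).trans (fused_code hd a)))) h56
  set c : G := d.emb ⟨gen g, mem_W0.2 (gen_par g)⟩ with hc
  have hca : ∀ a, c * d.emb (L' a) * c⁻¹ = d.emb (L' (gc g a)) := fun a => by
    rw [mul_inv_eq_iff_eq_mul, hc, ← map_mul, ← map_mul]
    exact congrArg d.emb (Subtype.ext (gc_spec g a))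
  have hstep : ∀ a, (m * c) * d.emb (L' a) * (m * c)⁻¹ = d.emb (L' (φ (gc g a))) := fun a => by
    rw [hm, ← hca]
    group
  refine ⟨(m * c) * (m * c) * (m * c) * (m * c), fun a => ?_⟩
  rw [← hg a]
  simp only [pow4]
  rw [← hstep, ← hstep, ← hstep, ← hstep]
  group

end Cfsg.Agent.S3298Lib
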