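import Cfsg.Agent.Lib.S3298.Loc.Code
import Cfsg.Agent.Lib.S3298.Glue.Defs

/-!
S3298: the parity kernel around the four-group of the last two pairs.
-/

set_option autoImplicit false
set_option maxRecDepth 100000

namespace Cfsg.Agent.S3298Lib

open Equiv S3298Fus SylClasses

/-- The element of a code with even flips. -/
def ev (n : ℕ) : ↥W0 := if h : W.par (el n) = 0 then ⟨el n, mem_W0.2 h⟩ else 1

/-- A code of the kernel. -/
def IsC (n : ℕ) : Prop := n < 384 ∧ evn n = true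

theorem ev_val {n : ℕ} (h : IsC n) : (ev n).1 = el n := by
  rw [ev, dif_pos ((par_el h.1).2 h.2)]

theorem IsC.mul {n m : ℕ} (hn : IsC n) (hm : IsC m) : IsC (tm n m) ∧ ev n * ev m = ev (tm n m) := by
  have h1 := (tm_bounds hn.1 hm.1).1
  have h2 : W.par (el (tm n m)) = 0 := by
    rw [← el_mul hn.1 hm.1, W.par_mul, (par_el hn.1).2 hn.2, (par_el hm.1).2 hm.2, add_zero]
  refine ⟨⟨h1, (par_el h1).1 h2⟩, Subtype.ext ?_⟩
  rw [Subgroup.coe_mul, ev_val hn, ev_val hm, ev_val ⟨h1, (par_el h1).1 h2⟩, el_mul hn.1 hm.1]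

theorem ev_inj {n m : ℕ} (hn : IsC n) (hm : IsC m) (h : ev n = ev m) : n = m :=
  el_inj hn.1 hm.1 (by rw [← ev_val hn, ← ev_val hm, h])

theorem isC_zero : IsC 0 := ⟨by norm_num, by decide⟩

theorem ev_zero : ev 0 = 1 := Subtype.ext ((ev_val isC_zero).trans el_zero)

theorem isC_ti : ∀ n < 384, evn n = true → evn (ti n) = true := by decide +kernel

theorem IsC.inv {n : ℕ} (hn : IsC n) : IsC (ti n) ∧ ev (ti n) = (ev n)⁻¹ := by
  have h : IsC (ti n) := ⟨(ti_spec n hn.1).1, isC_ti n hn.1 hn.2⟩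
  refine ⟨h, Subtype.ext ?_⟩
  rw [ev_val h, InvMemClass.coe_inv, ev_val hn, el_ti hn.1]

/-- The even flip vectors. -/
def evs : Fin 8 → ℕ := ![0, 3, 5, 6, 9, 10, 12, 15]

/-- The permutation codes of the normal four-group. -/
def four : Fin 4 → ℕ := ![0, 7, 16, 20]

/-- The codes of the kernel, numbered. -/
def tn (i : Fin 192) : ℕ := evs ⟨i.val / 24, by omega⟩ * 24 + i.val % 24

/-- The codes of the extraspecial subgroup, numbered. -/
def qn (i : Fin 32) : ℕ := evs ⟨i.val / 4, by omega⟩ * 24 + four ⟨i.val % 4, by omega⟩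

theorem tn_spec : ∀ i, tn i < 384 ∧ evn (tn i) = true := by decide +kernel

theorem tn_inj : Function.Injective tn := by
  have h : ∀ i j, tn i = tn j → i = j := by decide +kernel
  exact fun i j => h i j

theorem tn_surj : ∀ n < 384, evn n = true → ∃ i, tn i = n := by decide +kernel

theorem isC_tn (i : Fin 192) : IsC (tn i) := tn_spec i

theorem IsC.exists_tn {n : ℕ} (h : IsC n) : ∃ i, tn i = n := tn_surj n h.1 h.2

theorem qn_spec : ∀ i, qn i < 384 ∧ evn (qn i) = true := by decide +kernel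

theorem isC_qn (i : Fin 32) : IsC (qn i) := qn_spec i

/-- The four-group of the last two pairs. -/
def vx : Fin 4 → ↥W0 := ![1, a45, b45, a45 * b45]

/-- The signed permutations of the last two pairs. -/
def xt (e : Fin 8) : W6 :=
  ⟨![0, 0, 0, 0, if e.val.testBit 0 then 1 else 0, if e.val.testBit 1 then 1 else 0],
    if e.val.testBit 2 then swap 4 5 else 1⟩

theorem xt_surj : ∀ (b : Bool) (c d : ZMod 2), ∃ e, xt e = ⟨![0, 0, 0, 0, c, d], if b then swap 4 5 else 1⟩ := by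
  decide +kernel

/-- An element preserving the last two pairs splits. -/
theorem exists_split {w : W6} (h4 : w.p 4 = 4 ∨ w.p 4 = 5) (h5 : w.p 5 = 4 ∨ w.p 5 = 5) :
    ∃ e, ∃ n < 384, w = xt e * el n := by
  obtain ⟨e, he⟩ := xt_surj (decide (w.p 4 = 5)) (w.v 4) (w.v 5)
  set u := (xt e)⁻¹ * w with hu
  have hp : u.p 4 = 4 ∧ u.p 5 = 5 := by
    rw [hu, W.mul_p, W.inv_p, Perm.mul_apply, Perm.mul_apply, he]
    have hne : w.p 4 ≠ w.p 5 := fun h => absurd (w.p.injective h) (by decide)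
    rcases h4 with h4 | h4 <;> rcases h5 with h5 | h5
    · exact absurd (h4.trans h5.symm) hne
    · rw [h4, h5]; simp
    · rw [h4, h5]; simp
    · exact absurd (h4.trans h5.symm) hne
  have hv : u.v 4 = 0 ∧ u.v 5 = 0 := by
    rw [hu, W.mul_v, W.inv_v, W.inv_p, he]
    rcases h4 with h4 | h4 <;> simp [h4, Equiv.Perm.inv_def, Equiv.Perm.one_def, CharTwo.add_self_eq_zero]
  obtain ⟨n, hn, hn'⟩ := exists_el hv.1 hv.2 hp.1 hp.2
  exact ⟨e, n, hn, by rw [hn', hu, mul_inv_cancel_left]⟩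

/-- The commutation with the flip of the last two pairs. -/
theorem preserve_of_comm_a {u : ↥W0} (h : u * a45 = a45 * u) :
    (u.1.p 4 = 4 ∨ u.1.p 4 = 5) ∧ (u.1.p 5 = 4 ∨ u.1.p 5 = 5) := by
  have h' : u.1 * a45.1 = a45.1 * u.1 := congrArg Subtype.val h
  rw [← mul_inv_eq_iff_eq_mul, show a45.1 = W.fl ![0, 0, 0, 0, 1, 1] from rfl, W.conj_fl, W.fl_inj] at h'
  have hk : ∀ k : Fin 6, (![0, 0, 0, 0, 1, 1] : Fin 6 → ZMod 2) k = 1 → k = 4 ∨ k = 5 := by decide
  refine ⟨hk _ ?_, hk _ ?_⟩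
  · have := congrFun h' (u.1.p 4)
    simpa using this.symm
  · have := congrFun h' (u.1.p 5)
    simpa using this.symm

theorem vx_xt : ∀ i, ∃ e, (vx i).1 = xt e := by decide +kernel

/-- The centraliser of the flip of the last two pairs in the kernel. -/
theorem cent_a {u : ↥W0} (h : u * a45 = a45 * u) :
    ∃ e, ∃ n < 384, u.1 = xt e * el n ∧ (evn n = true ↔ e.val.testBit 0 = e.val.testBit 1) := by
  obtain ⟨h4, h5⟩ := preserve_of_comm_a h
  obtain ⟨e, n, hn, he⟩ := exists_split h4 h5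
  refine ⟨e, n, hn, he, ?_⟩
  have hpar := mem_W0.1 u.2
  rw [he, W.par_mul] at hpar
  rw [← par_el hn]
  have hx : ∀ e, W.par (xt e) = if e.val.testBit 0 = e.val.testBit 1 then 0 else 1 := by decide +kernel
  rw [hx] at hpar
  split_ifs at hpar with hb
  · exact iff_of_true (by rwa [zero_add] at hpar) hb
  · refine iff_of_false (fun h0 => ?_) hb
    rw [h0, add_zero] at hpar
    exact one_ne_zero hpar

theorem el_comm : ∀ i : Fin 4, ∀ n < 384, (vx i).1 * el n = el n * (vx i).1 := by decide +kernel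

/-- The centraliser of the four-group in the kernel. -/
theorem cent_V {u : ↥W0} (ha : u * a45 = a45 * u) (hb : u * b45 = b45 * u) :
    ∃ i, ∃ n, IsC n ∧ u = vx i * ev n := by
  obtain ⟨e, n, hn, he, hpar⟩ := cent_a ha
  have hb' : u.1 * (vx 2).1 = (vx 2).1 * u.1 := congrArg Subtype.val hb
  have hec : xt e * (vx 2).1 = (vx 2).1 * xt e := by
    rw [he, mul_assoc, ← el_comm 2 n hn, ← mul_assoc, ← mul_assoc] at hb'
    exact mul_right_cancel hb'
  have hfin : ∀ e, xt e * (vx 2).1 = (vx 2).1 * xt e → e.val.testBit 0 = e.val.testBit 1 ∧ ∃ i, (vx i).1 = xt e := by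
    decide +kernel
  obtain ⟨hbits, i, hi⟩ := hfin e hec
  have hC : IsC n := ⟨hn, hpar.2 hbits⟩
  exact ⟨i, n, hC, Subtype.ext (by rw [Subgroup.coe_mul, ev_val hC, hi, he])⟩

theorem vx_mul : ∀ i j, ∃ k, vx i * vx j = vx k := by decide +kernel

theorem vx_sq : ∀ i, vx i * vx i = 1 := by decide +kernel

theorem vx_ev_comm (i : Fin 4) {n : ℕ} (hn : IsC n) : vx i * ev n = ev n * vx i :=
  Subtype.ext (by rw [Subgroup.coe_mul, Subgroup.coe_mul, ev_val hn]; exact el_comm i n hn.1)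

/-- The four-group meets the kernel of the codes trivially. -/
theorem vx_ev_eq {i : Fin 4} {n : ℕ} (hn : IsC n) (h : vx i * ev n = 1) : i = 0 ∧ n = 0 := by
  have h1 : (vx i).1 = el (ti n) := by
    rw [el_ti hn.1, ← ev_val hn, ← InvMemClass.coe_inv, eq_inv_of_mul_eq_one_left h]
  obtain ⟨⟨a, -⟩, b, -⟩ := el_fixes (ti n)
  have hfin : ∀ i, (vx i).1.v 4 = 0 → (vx i).1.p 4 = 4 → i = 0 := by decide +kernel
  obtain rfl : i = 0 := hfin i (by rw [h1, a]) (by rw [h1, b])
  rw [show vx 0 = 1 from rfl, one_mul, ← ev_zero] at h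
  exact ⟨rfl, ev_inj hn isC_zero h⟩

theorem ev_sC : (ev sC).1 = W.fl ![1, 1, 1, 1, 0, 0] := by decide +kernel

theorem z0_eq : z0 = ev sC * a45 := by decide +kernel

end Cfsg.Agent.S3298Lib
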