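import Cfsg.Agent.Lib.S3298.Loc.Split
import Cfsg.Agent.Lib.S3298.Loc.Alt

/-!
S3298: the embedding of eight or nine points agreeing with the model, with the facts on the centraliser of
the four-group of the last two pairs.
-/

set_option autoImplicit false
set_option maxRecDepth 100000
set_option linter.unusedSectionVars false

namespace Cfsg.Agent.S3298Lib

open S3298Fus SylClasses Subgroup Equiv

variable {G : Type*} [Group G] [Finite G] (d : Dat G)

/-- The derived subgroup inside the whole group. -/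
abbrev LG : Subgroup G := (LV d).map (CV d).subtype

theorem emb_ev_mem_LG (hd : ∀ a, d.Fused a ↔ a * a = 1 ∧ Dat.P27 a.1) {n : ℕ} (hn : IsC n) :
    d.emb (ev n) ∈ LG d :=
  ⟨ec d hn, imC_le d hd ⟨n, hn, rfl⟩, rfl⟩

theorem ev_mem_T8 {n : ℕ} (hn : IsC n) : ev n ∈ T8 := by
  obtain ⟨i, rfl⟩ := hn.exists_tn
  exact (by decide +kernel : ∀ (i : Fin 192) (j : Fin 13), 8 ≤ j.val → std (ev (tn i)) j = j) i

theorem T8_ev {a : ↥W0} (ha : a ∈ T8) : ∃ n, IsC n ∧ a = ev n := by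
  let K : Subgroup ↥W0 :=
    { carrier := {a | ∃ n, IsC n ∧ a = ev n}
      one_mem' := ⟨0, isC_zero, ev_zero.symm⟩
      mul_mem' := by
        rintro _ _ ⟨n, hn, rfl⟩ ⟨m, hm, rfl⟩
        exact ⟨_, (hn.mul hm).1, (hn.mul hm).2⟩
      inv_mem' := by
        rintro _ ⟨n, hn, rfl⟩
        exact ⟨_, hn.inv.1, hn.inv.2.symm⟩ }
  refine T8_closure (K := K) (fun k => ?_) ha
  obtain ⟨i, hi⟩ := (by decide +kernel : ∀ k : Fin 4, ∃ i : Fin 192, tg k = ev (tn i)) k
  exact ⟨_, isC_tn i, hi⟩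

theorem mem_T8_of_H45 {full : Bool} {a : ↥W0} (h : std a ∈ H45 full) : a ∈ T8 := by
  intro i hi
  by_cases h12 : i = 12
  · subst h12
    obtain ⟨x, hx⟩ : ∃ x, e13 x = (12 : Fin 13) := ⟨Sum.inr 0, rfl⟩
    rw [← hx]
    show e13 (Equiv.Perm.sumCongr (dbl a.1) (1 : Equiv.Perm (Fin 1)) (e13.symm (e13 x))) = e13 x
    rw [Equiv.symm_apply_apply]
    rw [show x = Sum.inr 0 from e13.injective (hx.trans rfl)]
    rfl
  · refine (mem_H45_pts.1 h).2 i ?_
    rintro (h' | ⟨-, h'⟩)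
    · omega
    · exact h12 h'

theorem std_mem_H45_of_T8 {full : Bool} {a : ↥W0} (ha : a ∈ T8) : std a ∈ H45 full := by
  obtain ⟨n, hn, rfl⟩ := T8_ev ha
  obtain ⟨i, rfl⟩ := hn.exists_tn
  refine mem_H45_pts.2 ⟨(by decide +kernel : ∀ i : Fin 192, Perm.sign (std (ev (tn i))) = 1) i, fun j hj => ha j ?_⟩
  by_contra h
  exact hj (Or.inl (by omega))

theorem std_sC : std (ev sC) = ss := by decide +kernel

theorem four_facts : ∀ full : Bool, ∀ g ∈ ([swap 4 5 * swap 5 6, swap 0 2 * swap 1 3] : List P13),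
    Perm.sign g = 1 ∧ ∀ i, ¬ pts full i → g i = i := by
  simp only [List.forall_mem_cons, List.not_mem_nil, IsEmpty.forall_iff, implies_true, and_true]
  decide +kernel

theorem fpf_codes : ∀ i : Fin 192, tn i ≠ 0 → tm (tm (tn i) (tn i)) (tn i) = 0 → ∀ j : Fin 192,
    tm (tn j) (tn j) = 0 → tm (tn i) (tn j) = tm (tn j) (tn i) → tn j = 0 ∨ tn j = sC := by
  decide +kernel

/-- The types of the involutions of the model. -/
theorem type_codes : ∀ i : Fin 192, ev (tn i) * ev (tn i) = 1 → ev (tn i) ≠ 1 →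
    ((std (ev (tn i))).support.card = 8 ↔ Dat.P27 (ev (tn i) * a45).1) ∧
      ((std (ev (tn i))).support.card = 8 ∨ (std (ev (tn i))).support.card = 4) := by
  decide +kernel

/-- Which fused elements of the centraliser are long. -/
theorem class_codes : ∀ (k : Fin 4) (i : Fin 192), ev (tn i) * ev (tn i) = 1 → Dat.P27 (vx k * ev (tn i)).1 →
    ¬Dat.P27 (vx k * ev (tn i) * a45).1 → k = 1 ∧ (std (ev (tn i))).support.card = 8 ∧ ev (tn i) ≠ 1 := by
  decide +kernel

variable (hd : ∀ a, d.Fused a ↔ a * a = 1 ∧ Dat.P27 a.1)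
include hd

/-- The centraliser of the flip in the derived subgroup is the model. -/
theorem cent_LG {g : G} (hg : g ∈ LG d) (hs : g * d.emb (ev sC) = d.emb (ev sC) * g) :
    ∃ n, IsC n ∧ g = d.emb (ev n) := by
  obtain ⟨c, hc, rfl⟩ := hg
  have hT : c ∈ cT d := by
    rw [mem_cT]
    show c.1 * d.emb z0 = d.emb z0 * c.1
    rw [z0_eq, map_mul, ← mul_assoc, show c.1 * d.emb (ev sC) = d.emb (ev sC) * c.1 from hs, mul_assoc,
      ((mem_CV d).1 c.2).1, mul_assoc]
  obtain ⟨z, hz, _, ⟨n, hn, rfl⟩, e⟩ := cT_split d hT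
  have hz1 : z = 1 := disjoint_LV d hd (by
    rw [show z = c * (ec d hn)⁻¹ by rw [← e, mul_inv_cancel_right]]
    exact mul_mem hc (inv_mem (imC_le d hd ⟨n, hn, rfl⟩))) hz
  rw [hz1, one_mul] at e
  exact ⟨n, hn, by rw [← e]; rfl⟩

/-- The alternating group of eight or nine points onto the derived subgroup. -/
theorem exists_psi₀ : ∃ full, ∃ ψ : ↥(H45 full) →* G, Function.Injective ψ ∧ ψ.range = LG d := by
  let f : ↥(LV d) →* CQ d := (QuotientGroup.mk' (fourV d)).comp (LV d).subtype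
  have hf : Function.Bijective f := by
    refine ⟨(injective_iff_map_eq_one f).2 fun l hl => Subtype.ext (disjoint_LV d hd l.2
      ((QuotientGroup.eq_one_iff _).1 hl)), fun y => ?_⟩
    obtain ⟨g, rfl⟩ := QuotientGroup.mk'_surjective _ y
    have hg : g ∈ LV d ⊔ fourV d := by rw [sup_fourV d hd]; trivial
    obtain ⟨l, hl, z, hz, rfl⟩ := Subgroup.mem_sup_of_normal_right.1 hg
    exact ⟨⟨l, hl⟩, by
      rw [map_mul, show QuotientGroup.mk' (fourV d) z = 1 from (QuotientGroup.eq_one_iff z).2 hz, mul_one]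
      rfl⟩
  let eL : ↥(LV d) ≃* ↥(LG d) := (LV d).equivMapOfInjective _ (CV d).subtype_injective
  have mk : ∀ full, ↥(H45 full) ≃* CQ d →
      ∃ ψ : ↥(H45 full) →* G, Function.Injective ψ ∧ ψ.range = LG d := by
    intro full e
    let e' : ↥(H45 full) ≃* ↥(LG d) := (e.trans (MulEquiv.ofBijective f hf).symm).trans eL
    refine ⟨(LG d).subtype.comp e'.toMonoidHom, Subtype.coe_injective.comp e'.injective, ?_⟩
    rw [MonoidHom.range_comp, MonoidHom.range_eq_top.2 e'.surjective, ← MonoidHom.range_eq_map,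
      Subgroup.range_subtype]
  rcases iso_alt d hd with ⟨⟨e⟩⟩ | ⟨⟨e⟩⟩
  · obtain ⟨i⟩ := iso_H45 card_pts.1
    exact ⟨_, mk _ (i.symm.trans e.symm)⟩
  · obtain ⟨i⟩ := iso_H45 card_pts.2
    exact ⟨_, mk _ (i.symm.trans e.symm)⟩

/-- Normalised at the flip. -/
theorem exists_psi₁ : ∃ full, ∃ ψ : ↥(H45 full) →* G, Function.Injective ψ ∧ ψ.range = LG d ∧
    ∃ h : ss ∈ H45 full, ψ ⟨ss, h⟩ = d.emb (ev sC) := by
  obtain ⟨full, ψ, hinj, hrange⟩ := exists_psi₀ d hd
  obtain ⟨s', hs'⟩ : d.emb (ev sC) ∈ ψ.range := hrange ▸ emb_ev_mem_LG d hd isC_sC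
  have h2 : s' * s' = 1 := hinj (by
    rw [map_mul, map_one, hs', ← map_mul, show ev sC * ev sC = 1 from (by decide +kernel), map_one])
  have h1 : s' ≠ 1 := fun h => by
    rw [h, map_one, ← map_one d.emb] at hs'
    exact absurd (d.inj hs') (by decide +kernel)
  obtain ⟨k, ⟨hk, -⟩ | ⟨hk, -⟩⟩ := classes (congrArg Subtype.val h2) fun h => h1 (Subtype.ext h)
  · refine ⟨full, ψ.comp (MulAut.conj k⁻¹).toMonoidHom, hinj.comp (MulAut.conj k⁻¹).injective, ?_,
      hk ▸ (k * s' * k⁻¹).2, ?_⟩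
    · rw [MonoidHom.range_comp, MonoidHom.range_eq_top.2 (MulAut.conj k⁻¹).surjective, ← MonoidHom.range_eq_map,
        hrange]
    · rw [← hs']
      show ψ (k⁻¹ * ⟨ss, _⟩ * k⁻¹⁻¹) = ψ s'
      refine congrArg ψ ?_
      rw [show (⟨ss, hk ▸ (k * s' * k⁻¹).2⟩ : ↥(H45 full)) = k * s' * k⁻¹ from Subtype.ext hk.symm]
      group
  · exfalso
    set w : ↥(H45 full) := ⟨_, mem_H45_pts.2 (four_facts full _ (List.mem_cons_self ..))⟩ with hw
    set j : ↥(H45 full) :=
      ⟨_, mem_H45_pts.2 (four_facts full _ (List.mem_cons_of_mem _ (List.mem_cons_self ..)))⟩ with hj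
    have hp : (swap 4 5 * swap 5 6 : P13) * r4 = r4 * (swap 4 5 * swap 5 6) ∧
        (swap 0 2 * swap 1 3 : P13) * r4 = r4 * (swap 0 2 * swap 1 3) ∧
        (swap 4 5 * swap 5 6 : P13) * (swap 0 2 * swap 1 3) = (swap 0 2 * swap 1 3) * (swap 4 5 * swap 5 6) ∧
        (swap 4 5 * swap 5 6 : P13) * (swap 4 5 * swap 5 6) * (swap 4 5 * swap 5 6) = 1 ∧
        (swap 4 5 * swap 5 6 : P13) ≠ 1 ∧ (swap 0 2 * swap 1 3 : P13) * (swap 0 2 * swap 1 3) = 1 ∧
        (swap 0 2 * swap 1 3 : P13) ≠ 1 ∧ (swap 0 2 * swap 1 3 : P13) ≠ r4 := by decide +kernel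
    obtain ⟨p1, p2, p3, p4, p5, p6, p7, p8⟩ := hp
    set ψ' := ψ.comp (MulAut.conj k⁻¹).toMonoidHom with hψ'
    have hinj' : Function.Injective ψ' := hinj.comp (MulAut.conj k⁻¹).injective
    have hr : ψ' (k * s' * k⁻¹) = d.emb (ev sC) := by
      rw [← hs', hψ']
      show ψ (k⁻¹ * (k * s' * k⁻¹) * k⁻¹⁻¹) = ψ s'
      exact congrArg ψ (by group)
    have hcent : ∀ u : ↥(H45 full), u.1 * r4 = r4 * u.1 → ∃ n, IsC n ∧ ψ' u = d.emb (ev n) := fun u hu => by
      refine cent_LG d hd (hrange ▸ ⟨_, rfl⟩) ?_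
      rw [← hr, ← map_mul, ← map_mul]
      exact congrArg ψ' (Subtype.ext (by
        show u.1 * (k.1 * s'.1 * k.1⁻¹) = k.1 * s'.1 * k.1⁻¹ * u.1
        rw [hk, hu]))
    obtain ⟨n, hn, en⟩ := hcent w p1
    obtain ⟨m, hm, em'⟩ := hcent j p2
    obtain ⟨i, rfl⟩ := hn.exists_tn
    obtain ⟨l, rfl⟩ := hm.exists_tn
    have ii := (isC_tn i).mul (isC_tn i)
    have ll := (isC_tn l).mul (isC_tn l)
    have back : ∀ {a b : ↥W0}, d.emb a = d.emb b → a = b := fun h => d.inj h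
    have q1 : tn i ≠ 0 := fun h => p5 (congrArg Subtype.val (hinj' (a₁ := w) (a₂ := 1) (by
      rw [en, h, ev_zero, map_one, map_one])))
    have q2 : tm (tm (tn i) (tn i)) (tn i) = 0 := ev_inj (ii.1.mul (isC_tn i)).1 isC_zero (back (by
      rw [← (ii.1.mul (isC_tn i)).2, ← ii.2, map_mul, map_mul, ← en, ← map_mul, ← map_mul, ev_zero, map_one,
        show w * w * w = 1 from Subtype.ext p4, map_one]))
    have q3 : tm (tn l) (tn l) = 0 := ev_inj ll.1 isC_zero (back (by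
      rw [← ll.2, map_mul, ← em', ← map_mul, ev_zero, map_one, show j * j = 1 from Subtype.ext p6, map_one]))
    have q4 : tm (tn i) (tn l) = tm (tn l) (tn i) :=
      ev_inj ((isC_tn i).mul (isC_tn l)).1 ((isC_tn l).mul (isC_tn i)).1 (back (by
        rw [← ((isC_tn i).mul (isC_tn l)).2, ← ((isC_tn l).mul (isC_tn i)).2, map_mul, map_mul, ← en, ← em',
          ← map_mul, ← map_mul, show w * j = j * w from Subtype.ext p3]))
    rcases fpf_codes i q1 q2 l q3 q4 with e | e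
    · refine p7 (congrArg Subtype.val (hinj' (a₁ := j) (a₂ := 1) ?_))
      rw [em', e, ev_zero, map_one, map_one]
    · refine p8 ?_
      have := congrArg Subtype.val (hinj' (a₁ := j) (a₂ := k * s' * k⁻¹) (by rw [em', e, hr]))
      exact this.trans hk

/-- The embedding with the facts needed for the local data. -/
theorem exists_psi : ∃ full, ∃ ψ : ↥(H45 full) →* G, Function.Injective ψ ∧
    (∀ a : ↥W0, ∀ h : std a ∈ H45 full, ψ ⟨std a, h⟩ = d.emb a) ∧
    (∀ g, ψ g * d.emb a45 = d.emb a45 * ψ g) ∧ (∀ g, ψ g * d.emb b45 = d.emb b45 * ψ g) ∧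
    CV d ≤ ψ.range ⊔ closure ({d.emb a45, d.emb b45} : Set G) ∧
    Odd ((centralizer ({d.t} : Set G)).relIndex (CV d)) ∧
    ∀ a : ↥W0, a * a45 = a45 * a → a * b45 = b45 * a → a * a = 1 → Dat.P27 a.1 →
      ¬Dat.P27 (a * a45).1 → d.emb a ∈ Kset d := by
  classical
  obtain ⟨full, ψ₁, hinj, hrange, hss, hψs⟩ := exists_psi₁ d hd
  -- the endomorphism of the model
  let E := MonoidHom.ofInjective hinj
  have hemb : ∀ a : ↥T8, d.emb a.1 ∈ ψ₁.range := fun a => by
    obtain ⟨n, hn, e⟩ := T8_ev a.2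
    rw [e, hrange]
    exact emb_ev_mem_LG d hd hn
  let α : ↥T8 →* P13 :=
    (H45 full).subtype.comp (E.symm.toMonoidHom.comp ((d.emb.comp T8.subtype).codRestrict ψ₁.range hemb))
  have hα : ∀ a : ↥T8, ∃ h : α a ∈ H45 full, ψ₁ ⟨α a, h⟩ = d.emb a.1 := fun a => by
    refine ⟨(E.symm ⟨d.emb a.1, hemb a⟩).2, ?_⟩
    exact congrArg Subtype.val (E.apply_symm_apply ⟨d.emb a.1, hemb a⟩)
  have hsC : ev sC ∈ T8 := ev_mem_T8 isC_sC
  have hαss : ∀ a, α a * ss = ss * α a := fun a => by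
    obtain ⟨h, e⟩ := hα a
    refine congrArg Subtype.val (hinj (a₁ := ⟨α a, h⟩ * ⟨ss, hss⟩) (a₂ := ⟨ss, hss⟩ * ⟨α a, h⟩) ?_)
    rw [map_mul, map_mul, e, hψs, ← map_mul, ← map_mul]
    obtain ⟨n, hn, ea⟩ := T8_ev a.2
    obtain ⟨i, rfl⟩ := hn.exists_tn
    rw [ea]
    exact congrArg d.emb ((by decide +kernel : ∀ i : Fin 192, ev (tn i) * ev sC = ev sC * ev (tn i)) i)
  have hαfix : ∀ a, ∀ i : Fin 13, 8 ≤ i.val → α a i = i := fun a i hi => by
    have hfix := (mem_H45_pts.1 (hα a).1).2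
    by_cases h12 : i = 12
    · subst h12
      have h' := DFunLike.congr_fun (hαss a) 12
      rw [Perm.mul_apply, Perm.mul_apply, show ss 12 = 12 from by decide +kernel] at h'
      -- the fixed point of the flip goes to a fixed point
      obtain hlt | hge := lt_or_ge (α a 12).val 8
      · exact absurd h'.symm ((by decide +kernel : ∀ j : Fin 13, j.val < 8 → ss j ≠ j) _ hlt)
      · by_contra hne
        have hnp : ¬ pts full (α a 12) := by
          rintro (h | ⟨-, h⟩)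
          · omega
          · exact hne h
        exact hne ((α a).injective (hfix _ hnp))
    · refine hfix i ?_
      rintro (h' | ⟨-, h'⟩)
      · omega
      · exact h12 h'
  have hαinj : Function.Injective α := fun a b e => by
    obtain ⟨ha, ea⟩ := hα a
    obtain ⟨hb, eb⟩ := hα b
    refine Subtype.ext (d.inj ?_)
    rw [← ea, ← eb]
    exact congrArg ψ₁ (Subtype.ext e)
  -- the long involutions
  have hlong : ∀ g : ↥(H45 full), g.1 * g.1 = 1 → g.1.support.card = 8 →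
      ∃ c ∈ CV d, c * d.emb (ev sC) * c⁻¹ = ψ₁ g := by
    intro g g2 g8
    have g1 : g.1 ≠ 1 := fun h => by rw [h, Perm.support_one] at g8; simp at g8
    obtain ⟨k, ⟨hk, -⟩ | ⟨-, hk⟩⟩ := classes g2 g1
    · refine ⟨(ψ₁ k)⁻¹, inv_mem ?_, ?_⟩
      · obtain ⟨c, -, hc⟩ := (hrange ▸ ⟨k, rfl⟩ : ψ₁ k ∈ LG d)
        rw [← hc]
        exact c.2
      · rw [← hψs, show (⟨ss, hss⟩ : ↥(H45 full)) = k * g * k⁻¹ from Subtype.ext hk.symm, map_mul, map_mul, map_inv]
        group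
    · omega
  have hlong_fused : ∀ c ∈ CV d, ∀ u : ↥W0, c * d.emb (ev sC) * c⁻¹ = d.emb u →
      c * d.t * c⁻¹ = d.emb (u * a45) := by
    intro c hc u e
    show c * d.emb z0 * c⁻¹ = _
    rw [z0_eq, map_mul, map_mul, ← e]
    calc c * (d.emb (ev sC) * d.emb a45) * c⁻¹ = c * d.emb (ev sC) * c⁻¹ * (c * d.emb a45 * c⁻¹) := by group
      _ = _ := by rw [((mem_CV d).1 hc).1, mul_inv_cancel_right]
  let L8 : ↥T8 → Prop := fun a => a * a = 1 ∧ (std a.1).support.card = 8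
  have hsub : ∀ a : ↥T8, a * a = 1 → (α a).support.card = 8 → L8 a := by
    intro a a2 a8
    obtain ⟨h, e⟩ := hα a
    obtain ⟨c, hc, ec'⟩ := hlong ⟨α a, h⟩ (by show α a * α a = 1; rw [← map_mul, a2, map_one]) a8
    rw [e] at ec'
    have hp : Dat.P27 (a.1 * a45).1 := ((hd _).1 ⟨c, hlong_fused c hc _ ec'⟩).2
    have a1 : a.1 ≠ 1 := fun h => by
      rw [show a = 1 from Subtype.ext h, map_one, Perm.support_one] at a8
      simp at a8
    obtain ⟨n, hn, ea⟩ := T8_ev a.2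
    obtain ⟨i, rfl⟩ := hn.exists_tn
    rw [ea] at hp a1
    exact ⟨a2, by rw [ea]; exact ((type_codes i (by rw [← ea]; exact congrArg Subtype.val a2) a1).1).2 hp⟩
  -- the endomorphism as a permutation of the model
  have hβ : ∀ a : ↥T8, ∃ b : ↥T8, std b.1 = α a := by
    intro a
    obtain ⟨h, e⟩ := hα a
    have : Finite ↥T8 := inferInstance
    let S : Set P13 := Set.range fun b : ↥T8 => std b.1
    have himg : ∀ b : ↥T8, ∃ c : ↥T8, α c = std b.1 := by
      intro b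
      have hbm : std b.1 ∈ H45 full := std_mem_H45_of_T8 b.2
      have hbs : std b.1 * ss = ss * std b.1 := by
        obtain ⟨n, hn, eb⟩ := T8_ev b.2
        obtain ⟨i, rfl⟩ := hn.exists_tn
        rw [eb, ← std_sC, ← map_mul, ← map_mul]
        exact congrArg std ((by decide +kernel : ∀ i : Fin 192, ev (tn i) * ev sC = ev sC * ev (tn i)) i)
      obtain ⟨n, hn, en⟩ := cent_LG d hd (g := ψ₁ ⟨std b.1, hbm⟩) (hrange ▸ ⟨_, rfl⟩) (by
        rw [← hψs, ← map_mul, ← map_mul]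
        exact congrArg ψ₁ (Subtype.ext hbs))
      refine ⟨⟨ev n, ev_mem_T8 hn⟩, ?_⟩
      obtain ⟨h', e'⟩ := hα ⟨ev n, ev_mem_T8 hn⟩
      exact congrArg Subtype.val (hinj (a₁ := ⟨_, h'⟩) (a₂ := ⟨_, hbm⟩) (e'.trans en.symm))
    choose c hc using himg
    have hcinj : Function.Injective c := fun x y e => Subtype.ext ((by
      have hstd : ∀ i j : Fin 192, std (ev (tn i)) = std (ev (tn j)) → i = j := by decide +kernel
      obtain ⟨n, hn, ex⟩ := T8_ev x.2
      obtain ⟨m, hm, ey⟩ := T8_ev y.2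
      obtain ⟨i, rfl⟩ := hn.exists_tn
      obtain ⟨j, rfl⟩ := hm.exists_tn
      have := hc x
      rw [e, hc y, ex, ey] at this
      rw [ex, ey, hstd j i this]))
    obtain ⟨b, hb⟩ := (Finite.injective_iff_bijective.1 hcinj).2 a
    exact ⟨b, by rw [← hb, hc]⟩
  choose β hβ' using hβ
  have hβinj : Function.Injective β := fun a b e => hαinj (by rw [← hβ', ← hβ', e])
  have hβsq : ∀ a, a * a = 1 → β a * β a = 1 := fun a a2 => Subtype.ext ((by
    have hker : ∀ i : Fin 192, std (ev (tn i)) = 1 → ev (tn i) = 1 := by decide +kernel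
    obtain ⟨n, hn, en⟩ := T8_ev (β a * β a).2
    obtain ⟨i, rfl⟩ := hn.exists_tn
    rw [en]
    refine hker i ?_
    rw [← en, Subgroup.coe_mul, map_mul, hβ', ← map_mul, a2, map_one]))
  have hmov : ∀ a : ↥T8, a * a = 1 → (α a).support.card = (std a.1).support.card := by
    have : Fintype ↥T8 := Fintype.ofFinite _
    let A : Finset ↥T8 := Finset.univ.filter fun a => L8 a
    let B : Finset ↥T8 := Finset.univ.filter fun a => a * a = 1 ∧ (α a).support.card = 8
    have hBA : B ⊆ A := fun a ha => by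
      rw [Finset.mem_filter] at ha ⊢
      exact ⟨ha.1, hsub a ha.2.1 ha.2.2⟩
    have hAB : A.card ≤ B.card := by
      have hbij : Function.Bijective β := Finite.injective_iff_bijective.1 hβinj
      refine le_of_eq ?_
      have hcardT : A.card = (Finset.univ.filter fun a : ↥T8 => L8 (β a)).card := by
        refine (Finset.card_equiv (Equiv.ofBijective β hbij) fun a => ?_).symm
        simp [A]
      rw [hcardT]
      refine congrArg Finset.card (Finset.filter_congr fun a _ => ?_)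
      simp only [L8, ← hβ']
      refine and_congr_left fun _ => ⟨fun h => ?_, hβsq a⟩
      refine hαinj ?_
      rw [map_mul, map_one, ← hβ', ← map_mul]
      show std (β a * β a).1 = 1
      rw [h]
      exact map_one _
    have heq := Finset.eq_of_subset_of_card_le hBA hAB
    intro a a2
    by_cases a1 : a = 1
    · subst a1; simp
    obtain ⟨n, hn, ea⟩ := T8_ev a.2
    obtain ⟨i, rfl⟩ := hn.exists_tn
    have e1 : ev (tn i) ≠ 1 := fun h => a1 (Subtype.ext (ea.trans h))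
    have e2 : ev (tn i) * ev (tn i) = 1 := by rw [← ea]; exact congrArg Subtype.val a2
    have hα2 : α a * α a = 1 := by rw [← map_mul, a2, map_one]
    have hα1 : α a ≠ 1 := fun h => a1 (hαinj (h.trans (map_one α).symm))
    obtain ⟨k, ⟨-, h8⟩ | ⟨-, h4⟩⟩ := classes (g := ⟨α a, (hα a).1⟩) hα2 hα1
    · rw [h8]
      exact (hsub a a2 h8).2.symm
    · rw [h4]
      rcases (type_codes i e2 e1).2 with h | h
      · have ha : a ∈ A := Finset.mem_filter.2 ⟨Finset.mem_univ _, a2, by rw [ea]; exact h⟩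
        rw [← heq, Finset.mem_filter] at ha
        exact absurd ((h4.symm.trans ha.2.2 : (4 : ℕ) = 8)) (by norm_num)
      · rw [ea, h]
  obtain ⟨σ, hσfix, hσs, hσ⟩ := aut_T8 α hαfix hαss hmov
  -- conjugation by the correction
  have hσmem : ∀ g : ↥(H45 full), σ * g.1 * σ⁻¹ ∈ H45 full := fun g => by
    obtain ⟨hs, hf⟩ := mem_H45_pts.1 g.2
    refine mem_H45_pts.2 ⟨by rw [map_mul, map_mul, map_inv, hs, mul_one, mul_inv_cancel], fun i hi => ?_⟩
    have h8 : 8 ≤ i.val := by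
      by_contra h
      exact hi (Or.inl (by omega))
    have hi' : σ⁻¹ i = i := Perm.inv_eq_iff_eq.2 (hσfix i h8).symm
    rw [Perm.mul_apply, Perm.mul_apply, hi', hf i hi, hσfix i h8]
  let cσ : ↥(H45 full) →* ↥(H45 full) :=
    ((MulAut.conj σ).toMonoidHom.comp (H45 full).subtype).codRestrict (H45 full) hσmem
  have hcσ : Function.Bijective cσ :=
    Finite.injective_iff_bijective.1 fun g g' e => Subtype.ext ((MulAut.conj σ).injective (congrArg Subtype.val e))
  set ψ := ψ₁.comp cσ with hψ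
  have hrange' : ψ.range = LG d := by
    rw [hψ, MonoidHom.range_comp, MonoidHom.range_eq_top.2 hcσ.2, ← MonoidHom.range_eq_map, hrange]
  have hmemC : ∀ g, ψ g ∈ CV d := fun g => by
    obtain ⟨c, -, hc⟩ := (hrange' ▸ ⟨g, rfl⟩ : ψ g ∈ LG d)
    rw [← hc]
    exact c.2
  refine ⟨full, ψ, hinj.comp hcσ.1, fun a h => ?_, fun g => ((mem_CV d).1 (hmemC g)).1,
    fun g => ((mem_CV d).1 (hmemC g)).2, ?_, odd_cT d hd, ?_⟩
  · have ha : a ∈ T8 := mem_T8_of_H45 h
    obtain ⟨h', e⟩ := hα ⟨a, ha⟩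
    rw [← e]
    exact congrArg ψ₁ (Subtype.ext (hσ ⟨a, ha⟩).symm)
  · intro g hg
    have hg' : (⟨g, hg⟩ : ↥(CV d)) ∈ LV d ⊔ fourV d := by rw [sup_fourV d hd]; trivial
    obtain ⟨l, hl, z, hz, e⟩ := Subgroup.mem_sup_of_normal_right.1 hg'
    have e' : l.1 * z.1 = g := congrArg Subtype.val e
    obtain ⟨i, rfl⟩ := hz
    rw [← e']
    refine mul_mem (mem_sup_left (hrange' ▸ ⟨l, hl, rfl⟩)) (mem_sup_right ?_)
    have ha : d.emb a45 ∈ closure ({d.emb a45, d.emb b45} : Set G) := subset_closure (Or.inl rfl)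
    have hb : d.emb b45 ∈ closure ({d.emb a45, d.emb b45} : Set G) := subset_closure (Or.inr rfl)
    show d.emb (vx i) ∈ closure ({d.emb a45, d.emb b45} : Set G)
    fin_cases i
    · simp [vx]
    · exact ha
    · exact hb
    · show d.emb (a45 * b45) ∈ _
      rw [map_mul]
      exact mul_mem ha hb
  · intro a hax hab ha2 hP hnP
    obtain ⟨k, n, hn, rfl⟩ := cent_V hax hab
    obtain ⟨i, rfl⟩ := hn.exists_tn
    have e2 : ev (tn i) * ev (tn i) = 1 := by
      have h := ha2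
      rw [mul_assoc, ← mul_assoc (ev (tn i)), ← vx_ev_comm k hn, ← mul_assoc, ← mul_assoc, vx_sq, one_mul] at h
      exact h
    obtain ⟨rfl, h8, -⟩ := class_codes k i e2 hP hnP
    have hTi := ev_mem_T8 hn
    obtain ⟨h, e⟩ := hα ⟨ev (tn i), hTi⟩
    obtain ⟨c, hc, ec'⟩ := hlong ⟨_, h⟩ (by
      show α _ * α _ = 1
      rw [← map_mul, show (⟨ev (tn i), hTi⟩ : ↥T8) * ⟨ev (tn i), hTi⟩ = 1 from Subtype.ext e2, map_one])
      ((hmov ⟨_, hTi⟩ (Subtype.ext e2)).trans h8)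
    rw [e] at ec'
    refine ⟨c, hc, ?_⟩
    rw [hlong_fused c hc _ ec', vx_ev_comm 1 hn]
    rfl

end Cfsg.Agent.S3298Lib
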