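import Cfsg.Agent.Lib.S3298.Loc.Pair
import Cfsg.Agent.Lib.S3298.Loc.Movers
import Cfsg.Agent.Lib.S3298.LocalX.CentX
import Cfsg.Agent.Lib.S3Extra.Alternating
import Cfsg.Agent.Lib.S3Extra.CaseTwo
import Cfsg.Agent.Lib.S3Extra.CaseZero

/-!
S3298: the centraliser of the four-group of the last two pairs, modulo it, is an alternating group of
degree eight or nine.
-/

set_option autoImplicit false
set_option maxRecDepth 100000
set_option linter.unusedSectionVars false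

namespace Cfsg.Agent.S3298Lib

open S3298Fus SylClasses Subgroup

variable {G : Type*} [Group G] [Finite G] (d : Dat G)

theorem comm_vx {g : G} (h : g ∈ CV d) (i : Fin 4) : g * d.emb (vx i) = d.emb (vx i) * g := by
  obtain ⟨ha, hb⟩ := (mem_CV d).1 h
  fin_cases i
  · simp [vx]
  · exact ha
  · exact hb
  · show g * d.emb (a45 * b45) = d.emb (a45 * b45) * g
    rw [map_mul, ← mul_assoc, ha, mul_assoc, hb, mul_assoc]

theorem vx_mem (i : Fin 4) : d.emb (vx i) ∈ CV d := by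
  refine (mem_CV d).2 ⟨?_, ?_⟩ <;> rw [← map_mul, ← map_mul] <;> congr 1
  · exact (by decide +kernel : ∀ i, vx i * a45 = a45 * vx i) i
  · exact (by decide +kernel : ∀ i, vx i * b45 = b45 * vx i) i

theorem ev_mem {n : ℕ} (hn : IsC n) : d.emb (ev n) ∈ CV d := by
  refine (mem_CV d).2 ⟨?_, ?_⟩ <;> rw [← map_mul, ← map_mul] <;> congr 1
  · exact (vx_ev_comm 1 hn).symm
  · exact (vx_ev_comm 2 hn).symm

/-- The four-group inside its centraliser. -/
def fourV : Subgroup ↥(CV d) where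
  carrier := Set.range fun i => (⟨d.emb (vx i), vx_mem d i⟩ : ↥(CV d))
  mul_mem' := by
    rintro _ _ ⟨i, rfl⟩ ⟨j, rfl⟩
    obtain ⟨k, hk⟩ := vx_mul i j
    exact ⟨k, Subtype.ext (by rw [Subgroup.coe_mul]; simp only []; rw [← map_mul, hk])⟩
  one_mem' := ⟨0, Subtype.ext (map_one d.emb)⟩
  inv_mem' := by
    rintro _ ⟨i, rfl⟩
    refine ⟨i, Subtype.ext (eq_inv_of_mul_eq_one_right ?_)⟩
    rw [← map_mul, vx_sq, map_one]

theorem fourV_central {z : ↥(CV d)} (hz : z ∈ fourV d) (g : ↥(CV d)) : g * z = z * g := by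
  obtain ⟨i, rfl⟩ := hz
  exact Subtype.ext (comm_vx d g.2 i)

instance fourV_normal : (fourV d).Normal :=
  ⟨fun z hz g => by rw [fourV_central d hz g, mul_inv_cancel_right]; exact hz⟩

/-- The quotient. -/
abbrev CQ : Type _ := ↥(CV d) ⧸ fourV d

/-- The elements of the codes in the quotient. -/
def em (n : ℕ) : CQ d :=
  QuotientGroup.mk' (fourV d) (if h : n < 384 ∧ evn n = true then ⟨d.emb (ev n), ev_mem d h⟩ else 1)

theorem em_eq {n : ℕ} (hn : IsC n) : em d n = QuotientGroup.mk' (fourV d) ⟨d.emb (ev n), ev_mem d hn⟩ := by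
  rw [em, dif_pos (show n < 384 ∧ evn n = true from hn)]

theorem em_zero : em d 0 = 1 := by
  rw [em_eq d isC_zero]
  have h : (⟨d.emb (ev 0), ev_mem d isC_zero⟩ : ↥(CV d)) = 1 := Subtype.ext (by simp [ev_zero])
  rw [h, map_one]

theorem em_mul {n m : ℕ} (hn : IsC n) (hm : IsC m) : em d n * em d m = em d (tm n m) := by
  rw [em_eq d hn, em_eq d hm, em_eq d (hn.mul hm).1, ← map_mul]
  congr 1
  exact Subtype.ext (by rw [Subgroup.coe_mul]; simp only []; rw [← map_mul, (hn.mul hm).2])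

theorem em_inv {n : ℕ} (hn : IsC n) : (em d n)⁻¹ = em d (ti n) :=
  inv_eq_of_mul_eq_one_right (by rw [em_mul d hn hn.inv.1, (ti_spec n hn.1).2, em_zero])

theorem em_one_iff {n : ℕ} (hn : IsC n) : em d n = 1 ↔ n = 0 := by
  refine ⟨fun h => ?_, fun h => h ▸ em_zero d⟩
  rw [em_eq d hn, QuotientGroup.mk'_apply, QuotientGroup.eq_one_iff] at h
  obtain ⟨i, hi⟩ := h
  have e : vx i = ev n := d.inj (congrArg Subtype.val hi)
  exact (vx_ev_eq hn (show vx i * ev n = 1 by rw [← e, vx_sq])).2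

theorem em_inj {n m : ℕ} (hn : IsC n) (hm : IsC m) (h : em d n = em d m) : n = m := by
  have h1 : em d (tm n (ti m)) = 1 := by rw [← em_mul d hn hm.inv.1, ← em_inv d hm, h, mul_inv_cancel]
  have h2 := (hn.mul hm.inv.1).2
  rw [(em_one_iff d (hn.mul hm.inv.1).1).1 h1, ev_zero, hm.inv.2, mul_inv_eq_one] at h2
  exact ev_inj hn hm h2

theorem isC_sC : IsC sC := ⟨by decide, by decide⟩

/-- The involution in the quotient. -/
abbrev sQ : CQ d := em d sC

/-- The code of a code of the standard elementary subgroup. -/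
theorem isC_L : IsC (7 : ℕ) ∧ IsC (6 : ℕ) ∧ IsC (1 : ℕ) ∧ IsC 72 := by unfold IsC; decide +kernel

variable (hd : ∀ a, d.Fused a ↔ a * a = 1 ∧ Dat.P27 a.1)
include hd

theorem not_fused_s : ¬ d.Fused (ev sC) := by
  rw [hd]
  exact fun h => (by decide +kernel : ¬ Dat.P27 (ev sC).1) h.2

theorem fused_sv {i : Fin 4} (hi : i ≠ 0) : d.Fused (ev sC * vx i) := by
  rw [hd]
  exact (by decide +kernel : ∀ i : Fin 4, i ≠ 0 → ev sC * vx i * (ev sC * vx i) = 1 ∧ Dat.P27 (ev sC * vx i).1) i hi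

theorem cent_sQ (y : CQ d) : y * sQ d = sQ d * y ↔ ∃ i, em d (tn i) = y := by
  constructor
  · intro h
    obtain ⟨g, rfl⟩ := QuotientGroup.mk'_surjective _ y
    simp only [sQ] at h
    rw [em_eq d isC_sC, ← map_mul, ← map_mul, QuotientGroup.mk'_eq_mk'] at h
    obtain ⟨_, ⟨i, rfl⟩, hz⟩ := h
    have h' : g.1 * d.emb (ev sC) * d.emb (vx i) = d.emb (ev sC) * g.1 := congrArg Subtype.val hz
    have hi : i = 0 := by
      by_contra hne
      obtain ⟨m, hm⟩ := fused_sv d hd hne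
      refine not_fused_s d hd ⟨g.1 * m, ?_⟩
      rw [show g.1 * m * d.t * (g.1 * m)⁻¹ = g.1 * (m * d.t * m⁻¹) * g.1⁻¹ by group, hm, map_mul, ← mul_assoc, h',
        mul_inv_cancel_right]
    subst hi
    rw [show vx 0 = 1 from rfl, map_one, mul_one] at h'
    have ht : g.1 * d.t = d.t * g.1 := by
      show g.1 * d.emb z0 = d.emb z0 * g.1
      rw [z0_eq, map_mul, ← mul_assoc, h', mul_assoc, ((mem_CV d).1 g.2).1, mul_assoc]
    obtain ⟨u, hu⟩ := d.mem_range ht
    obtain ⟨ha, hb⟩ := (mem_CV d).1 g.2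
    rw [← hu, ← map_mul, ← map_mul] at ha hb
    obtain ⟨i, n, hn, rfl⟩ := cent_V (d.inj ha) (d.inj hb)
    obtain ⟨j, rfl⟩ := hn.exists_tn
    refine ⟨j, ?_⟩
    rw [em_eq d hn, QuotientGroup.mk'_eq_mk']
    refine ⟨⟨d.emb (vx i), vx_mem d i⟩, ⟨i, rfl⟩, Subtype.ext ?_⟩
    show d.emb (ev (tn j)) * d.emb (vx i) = g.1
    rw [← hu, map_mul, ← map_mul, ← map_mul, vx_ev_comm i hn]
  · rintro ⟨i, rfl⟩
    rw [em_mul d (isC_tn i) isC_sC, em_mul d isC_sC (isC_tn i)]
    exact congrArg (em d) ((by decide +kernel : ∀ i, tm (tn i) sC = tm sC (tn i)) i)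

/-- The extraspecial subgroup of the quotient. -/
noncomputable def qQ : Subgroup (CQ d) where
  carrier := Set.range fun i => em d (qn i)
  mul_mem' := by
    rintro _ _ ⟨i, rfl⟩ ⟨j, rfl⟩
    obtain ⟨k, hk⟩ := (by decide +kernel : ∀ i j, ∃ k, qn k = tm (qn i) (qn j)) i j
    exact ⟨k, by simp only [em_mul d (isC_qn i) (isC_qn j), hk]⟩
  one_mem' := ⟨0, em_zero d⟩
  inv_mem' := by
    rintro _ ⟨i, rfl⟩
    obtain ⟨k, hk⟩ := (by decide +kernel : ∀ i, ∃ k, qn k = ti (qn i)) i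
    exact ⟨k, by simp only [em_inv d (isC_qn i), hk]⟩

/-- Membership in the extraspecial subgroup on the codes. -/
def inQ (n : ℕ) : Bool := n % 24 = 0 || n % 24 = 7 || n % 24 = 16 || n % 24 = 20

omit hd in
theorem em_mem_qQ {n : ℕ} (hn : IsC n) : em d n ∈ qQ d ↔ inQ n = true := by
  constructor
  · rintro ⟨i, hi⟩
    rw [← em_inj d (isC_qn i) hn hi]
    exact (by decide +kernel : ∀ i, inQ (qn i) = true) i
  · intro h
    obtain ⟨k, hk⟩ := (by decide +kernel : ∀ n < 384, evn n = true → inQ n = true → ∃ k, qn k = n) n hn.1 hn.2 h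
    exact ⟨k, congrArg (em d) hk⟩

/-- The hypotheses on the quotient. -/
theorem hypQ : S3Extra.Hyp (sQ d) (qQ d) := by
  have hmem : ∀ {y}, y * sQ d = sQ d * y → ∃ i, em d (tn i) = y := fun {y} h => (cent_sQ d hd y).1 h
  refine
    { s_two := ?_, comm_s := ?_, norm := ?_, card_Q := ?_, s_mem := ?_, center := ?_, sq := ?_, comm := ?_,
      card_cent := ?_, fpf := ?_, invert := ?_, outer := ?_, cases := ?_ }
  · have : Fact (Nat.Prime 2) := ⟨Nat.prime_two⟩
    have e : tm sC sC = 0 := by decide +kernel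
    refine orderOf_eq_prime ?_ fun h => absurd ((em_one_iff d isC_sC).1 h) (by decide)
    rw [pow_two, em_mul d isC_sC isC_sC, e, em_zero]
  · rintro _ ⟨i, rfl⟩
    show em d (qn i) * sQ d = sQ d * em d (qn i)
    rw [em_mul d (isC_qn i) isC_sC, em_mul d isC_sC (isC_qn i)]
    exact congrArg (em d) ((by decide +kernel : ∀ i, tm (qn i) sC = tm sC (qn i)) i)
  · intro g hg q hq
    obtain ⟨i, rfl⟩ := hmem hg
    obtain ⟨j, rfl⟩ := hq
    obtain ⟨k, hk⟩ := (by decide +kernel : ∀ i j, ∃ k, qn k = tm (tm (tn i) (qn j)) (ti (tn i))) i j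
    refine ⟨k, ?_⟩
    simp only []
    rw [hk, em_inv d (isC_tn i), em_mul d (isC_tn i) (isC_qn j),
      em_mul d ((isC_tn i).mul (isC_qn j)).1 (isC_tn i).inv.1]
  · refine (Nat.card_congr (Equiv.ofInjective (fun i => em d (qn i)) fun i j h => ?_).symm).trans (by simp)
    exact (by decide +kernel : ∀ i j, qn i = qn j → i = j) i j (em_inj d (isC_qn i) (isC_qn j) h)
  · exact (em_mem_qQ d isC_sC).2 (by decide)
  · rintro _ ⟨i, rfl⟩ h
    rcases (by decide +kernel : ∀ i, (∀ j, tm (qn j) (qn i) = tm (qn i) (qn j)) → qn i = 0 ∨ qn i = sC) i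
      (fun j => em_inj d ((isC_qn j).mul (isC_qn i)).1 ((isC_qn i).mul (isC_qn j)).1 (by
        rw [← em_mul d (isC_qn j) (isC_qn i), ← em_mul d (isC_qn i) (isC_qn j)]
        exact h _ ⟨j, rfl⟩)) with e | e
    · exact Or.inl (by simp only [e, em_zero])
    · exact Or.inr (by simp only [e])
  · rintro _ ⟨i, rfl⟩
    simp only [em_mul d (isC_qn i) (isC_qn i)]
    rcases (by decide +kernel : ∀ i, tm (qn i) (qn i) = 0 ∨ tm (qn i) (qn i) = sC) i with e | e
    · exact Or.inl (by simp only [e, em_zero])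
    · exact Or.inr (by simp only [e])
  · rintro _ ⟨i, rfl⟩ _ ⟨j, rfl⟩
    simp only [em_mul d (isC_qn i) (isC_qn j), em_mul d (isC_qn j) (isC_qn i),
      em_mul d ((isC_qn j).mul (isC_qn i)).1 isC_sC]
    rcases (by decide +kernel : ∀ i j, tm (qn i) (qn j) = tm (qn j) (qn i) ∨
      tm (qn i) (qn j) = tm (tm (qn j) (qn i)) sC) i j with e | e
    · exact Or.inl (by rw [e])
    · exact Or.inr (by simp only [e])
  · refine (Nat.card_congr ?_).trans (Nat.card_fin 192)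
    refine (Equiv.ofBijective (fun i => (⟨em d (tn i),
      mem_centralizer_singleton_iff.2 ((cent_sQ d hd _).2 ⟨i, rfl⟩)⟩ : centralizer ({sQ d} : Set (CQ d))))
      ⟨fun i j h => tn_inj (em_inj d (isC_tn i) (isC_tn j) (congrArg Subtype.val h)), fun y => ?_⟩).symm
    obtain ⟨i, hi⟩ := hmem (mem_centralizer_singleton_iff.1 y.2)
    exact ⟨i, Subtype.ext hi⟩
  · intro x hx h3 q hq hxq
    obtain ⟨i, rfl⟩ := hmem hx
    obtain ⟨j, rfl⟩ := hq
    have h0 : tn i ≠ 0 := fun h => by rw [h, em_zero, orderOf_one] at h3; omega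
    have h33 : tm (tn i) (tm (tn i) (tn i)) = 0 := by
      refine (em_one_iff d ((isC_tn i).mul ((isC_tn i).mul (isC_tn i)).1).1).1 ?_
      rw [← em_mul d (isC_tn i) ((isC_tn i).mul (isC_tn i)).1, ← em_mul d (isC_tn i) (isC_tn i), ← mul_assoc,
        ← pow_three']
      exact h3 ▸ pow_orderOf_eq_one _
    rw [em_mul d (isC_tn i) (isC_qn j), em_mul d (isC_qn j) (isC_tn i)] at hxq
    rcases (by decide +kernel : ∀ i, tn i ≠ 0 → tm (tn i) (tm (tn i) (tn i)) = 0 →
      ∀ j, tm (tn i) (qn j) = tm (qn j) (tn i) → qn j = 0 ∨ qn j = sC) i h0 h33 j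
      (em_inj d ((isC_tn i).mul (isC_qn j)).1 ((isC_qn j).mul (isC_tn i)).1 hxq) with e | e
    · exact Or.inl (by simp only [e, em_zero])
    · exact Or.inr (by simp only [e])
  · intro u x hu hx hu1 hu2 hx3
    obtain ⟨i, rfl⟩ := hmem hu
    obtain ⟨j, rfl⟩ := hmem hx
    have hii := (isC_tn i).mul (isC_tn i)
    have hjj := (isC_tn j).mul (isC_tn j)
    rw [em_mem_qQ d (isC_tn i)] at hu1
    rw [em_mul d (isC_tn i) (isC_tn i), em_mem_qQ d hii.1] at hu2
    rw [em_mul d (isC_tn j) (isC_tn j), em_mul d hjj.1 (isC_tn j), em_mem_qQ d (hjj.1.mul (isC_tn j)).1] at hx3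
    rw [em_inv d (isC_tn i), em_mul d (isC_tn i) (isC_tn j),
      em_mul d ((isC_tn i).mul (isC_tn j)).1 (isC_tn i).inv.1,
      em_mul d (((isC_tn i).mul (isC_tn j)).1.mul (isC_tn i).inv.1).1 (isC_tn j),
      em_mem_qQ d ((((isC_tn i).mul (isC_tn j)).1.mul (isC_tn i).inv.1).1.mul (isC_tn j)).1]
    exact (by decide +kernel : ∀ i, inQ (tn i) ≠ true → inQ (tm (tn i) (tn i)) = true →
      ∀ j, inQ (tm (tm (tn j) (tn j)) (tn j)) = true →
        inQ (tm (tm (tm (tn i) (tn j)) (ti (tn i))) (tn j)) = true) i hu1 hu2 j hx3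
  · intro u y hu hy hu1 hu2 hyu
    obtain ⟨i, rfl⟩ := hmem hu
    obtain ⟨j, rfl⟩ := hmem hy
    have hii := (isC_tn i).mul (isC_tn i)
    have hji := (isC_tn j).mul (isC_tn i)
    rw [em_mem_qQ d (isC_tn i)] at hu1
    rw [em_mul d (isC_tn i) (isC_tn i), em_mem_qQ d hii.1] at hu2
    rw [em_inv d (isC_tn i), em_inv d (isC_tn j), em_mul d (isC_tn j) (isC_tn i),
      em_mul d hji.1 (isC_tn j).inv.1, em_mul d (hji.1.mul (isC_tn j).inv.1).1 (isC_tn i).inv.1,
      em_mem_qQ d ((hji.1.mul (isC_tn j).inv.1).1.mul (isC_tn i).inv.1).1] at hyu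
    rw [em_mem_qQ d (isC_tn j), em_mul d (isC_tn j) (isC_tn i), em_mem_qQ d hji.1]
    exact (by decide +kernel : ∀ i, inQ (tn i) ≠ true → inQ (tm (tn i) (tn i)) = true →
      ∀ j, inQ (tm (tm (tm (tn j) (tn i)) (ti (tn j))) (ti (tn i))) = true →
        inQ (tn j) = true ∨ inQ (tm (tn j) (tn i)) = true) i hu1 hu2 j hyu
  · intro y hy
    obtain ⟨j, rfl⟩ := hmem hy
    have hjj := (isC_tn j).mul (isC_tn j)
    rw [em_mul d (isC_tn j) (isC_tn j), em_mul d hjj.1 (isC_tn j), em_mem_qQ d hjj.1,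
      em_mem_qQ d (hjj.1.mul (isC_tn j)).1]
    exact (by decide +kernel : ∀ j, inQ (tm (tn j) (tn j)) = true ∨
      inQ (tm (tm (tn j) (tn j)) (tn j)) = true) j

end Cfsg.Agent.S3298Lib
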