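import Cfsg.Agent.Lib.S3298.Loc.Ident
import Mathlib.GroupTheory.Abelianization.Defs
import Mathlib.GroupTheory.Transfer
import Cfsg.Agent.Lib.S3298.Finite.Aut

/-!
S3298: the centraliser of the four-group is its product with the derived subgroup, which contains the model.
-/

set_option autoImplicit false
set_option maxRecDepth 100000
set_option linter.unusedSectionVars false

namespace Cfsg.Agent.S3298Lib

open S3298Fus SylClasses Subgroup
open scoped commutatorElement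

variable {G : Type*} [Group G] [Finite G] (d : Dat G)

/-- The image of a code in the centraliser of the four-group. -/
def ec {n : ℕ} (hn : IsC n) : ↥(CV d) := ⟨d.emb (ev n), ev_mem d hn⟩

theorem ec_mul {n m : ℕ} (hn : IsC n) (hm : IsC m) : ec d hn * ec d hm = ec d (hn.mul hm).1 :=
  Subtype.ext (by simp only [ec, Subgroup.coe_mul]; rw [← map_mul, (hn.mul hm).2])

/-- The images of the codes. -/
def imC : Subgroup ↥(CV d) where
  carrier := {g | ∃ n, ∃ hn : IsC n, ec d hn = g}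
  one_mem' := ⟨0, isC_zero, Subtype.ext (by simp [ec, ev_zero])⟩
  mul_mem' := by
    rintro _ _ ⟨n, hn, rfl⟩ ⟨m, hm, rfl⟩
    exact ⟨_, _, (ec_mul d hn hm).symm⟩
  inv_mem' := by
    rintro _ ⟨n, hn, rfl⟩
    refine ⟨_, hn.inv.1, Subtype.ext ?_⟩
    simp only [ec, InvMemClass.coe_inv]
    rw [← map_inv, hn.inv.2]

theorem fourV_imC {z : ↥(CV d)} (hz : z ∈ fourV d) (hc : z ∈ imC d) : z = 1 := by
  obtain ⟨i, rfl⟩ := hz
  obtain ⟨n, hn, e⟩ := hc
  have e' : ev n = vx i := d.inj (congrArg Subtype.val e)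
  obtain ⟨hi, -⟩ := vx_ev_eq hn (show vx i * ev n = 1 by rw [e', vx_sq])
  subst hi
  exact Subtype.ext (map_one d.emb)

/-- The centraliser of the central involution inside. -/
def cT : Subgroup ↥(CV d) := (centralizer ({d.t} : Set G)).subgroupOf (CV d)

theorem mem_cT {g : ↥(CV d)} : g ∈ cT d ↔ g.1 * d.t = d.t * g.1 := by
  rw [cT, mem_subgroupOf, mem_centralizer_singleton_iff]

theorem cT_split {g : ↥(CV d)} (hg : g ∈ cT d) : ∃ z ∈ fourV d, ∃ c ∈ imC d, z * c = g := by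
  obtain ⟨u, hu⟩ := d.mem_range ((mem_cT d).1 hg)
  obtain ⟨ha, hb⟩ := (mem_CV d).1 g.2
  rw [← hu, ← map_mul, ← map_mul] at ha hb
  obtain ⟨i, n, hn, rfl⟩ := cent_V (d.inj ha) (d.inj hb)
  exact ⟨_, ⟨i, rfl⟩, ec d hn, ⟨n, hn, rfl⟩, Subtype.ext (by rw [← hu, map_mul]; rfl)⟩

theorem cT_commutator : ⁅cT d, cT d⁆ ≤ imC d := by
  rw [commutator_le]
  intro a ha b hb
  obtain ⟨z, hz, c, hc, rfl⟩ := cT_split d ha
  obtain ⟨z', hz', c', hc', rfl⟩ := cT_split d hb
  have e : ⁅z * c, z' * c'⁆ = ⁅c, c'⁆ := by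
    simp only [commutatorElement_def]
    have h : ∀ g, z * g = g * z := fun g => (fourV_central d hz g).symm
    have h' : ∀ g, z' * g = g * z' := fun g => (fourV_central d hz' g).symm
    calc z * c * (z' * c') * (z * c)⁻¹ * (z' * c')⁻¹ = z * (c * z') * c' * c⁻¹ * z⁻¹ * c'⁻¹ * z'⁻¹ := by group
      _ = z * (z' * c * c' * c⁻¹) * z⁻¹ * c'⁻¹ * z'⁻¹ := by rw [← h' c]; group
      _ = z' * c * c' * c⁻¹ * (z * z⁻¹) * c'⁻¹ * z'⁻¹ := by rw [h]; group
      _ = z' * (c * c' * c⁻¹ * c'⁻¹) * z'⁻¹ := by group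
      _ = _ := by rw [h']; group
  rw [e, commutatorElement_def]
  exact mul_mem (mul_mem (mul_mem hc hc') (inv_mem hc)) (inv_mem hc')

/-- The derived subgroup. -/
abbrev LV : Subgroup ↥(CV d) := commutator ↥(CV d)

variable (hd : ∀ a, d.Fused a ↔ a * a = 1 ∧ Dat.P27 a.1)
include hd

theorem commutator_CQ : commutator (CQ d) = ⊤ := by
  have key : ∀ m, 5 ≤ m → ∀ _ : CQ d ≃* alternatingGroup (Fin m), commutator (CQ d) = ⊤ := by
    intro m hm e
    have : IsSimpleGroup (alternatingGroup (Fin m)) := alternatingGroup.isSimpleGroup (by simpa using hm)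
    have : IsSimpleGroup (CQ d) := e.isSimpleGroup
    refine (IsSimpleGroup.eq_bot_or_eq_top_of_normal _ inferInstance).resolve_left fun h => ?_
    have hc : ∀ a b : CQ d, a * b = b * a := fun a b => by
      have := commutator_mem_commutator (Subgroup.mem_top a) (Subgroup.mem_top b)
      rwa [← _root_.commutator_def, h, Subgroup.mem_bot, commutatorElement_eq_one_iff_mul_comm] at this
    refine absurd (hc (em d 7) (em d 2)) ?_
    rw [em_mul d isC_L.1 (show IsC 2 from ⟨by norm_num, by decide⟩),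
      em_mul d (show IsC 2 from ⟨by norm_num, by decide⟩) isC_L.1]
    exact fun e => absurd (em_inj d (IsC.mul isC_L.1 ⟨by norm_num, by decide⟩).1
      (IsC.mul ⟨by norm_num, by decide⟩ isC_L.1).1 e) (by decide +kernel)
  rcases iso_alt d hd with ⟨⟨e⟩⟩ | ⟨⟨e⟩⟩
  · exact key 8 (by norm_num) e
  · exact key 9 (by norm_num) e

theorem sup_fourV : LV d ⊔ fourV d = ⊤ := by
  have h : (LV d).map (QuotientGroup.mk' (fourV d)) = ⊤ := by
    rw [LV, _root_.commutator_def, map_commutator, Subgroup.map_top_of_surjective _ (QuotientGroup.mk'_surjective _),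
      ← _root_.commutator_def, commutator_CQ d hd]
  have e := congrArg (Subgroup.comap (QuotientGroup.mk' (fourV d))) h
  rwa [comap_map_eq, QuotientGroup.ker_mk', comap_top] at e

theorem cT_comap : cT d = (centralizer ({sQ d} : Set (CQ d))).comap (QuotientGroup.mk' (fourV d)) := by
  ext g
  rw [mem_comap, mem_centralizer_singleton_iff, cent_sQ d hd]
  constructor
  · intro hg
    obtain ⟨z, hz, _, ⟨n, hn, rfl⟩, rfl⟩ := cT_split d hg
    obtain ⟨i, rfl⟩ := hn.exists_tn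
    refine ⟨i, ?_⟩
    rw [em_eq d hn, map_mul, show QuotientGroup.mk' (fourV d) z = 1 from (QuotientGroup.eq_one_iff z).2 hz, one_mul]
    rfl
  · rintro ⟨i, hi⟩
    rw [em_eq d (isC_tn i), QuotientGroup.mk'_eq_mk'] at hi
    obtain ⟨_, ⟨j, rfl⟩, e⟩ := hi
    rw [mem_cT, ← e]
    show d.emb (ev (tn i)) * d.emb (vx j) * d.emb z0 = d.emb z0 * (d.emb (ev (tn i)) * d.emb (vx j))
    rw [← map_mul, ← map_mul, ← map_mul, z0_comm]

theorem odd_cT : Odd (cT d).index := by
  rw [cT_comap d hd, Subgroup.index_comap_of_surjective _ (QuotientGroup.mk'_surjective _)]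
  have hm := (centralizer ({sQ d} : Set (CQ d))).index_mul_card
  rw [(hypQ d hd).card_cent] at hm
  have key : ∀ m k, Nat.card (alternatingGroup (Fin m)) = 192 * k → Odd k → Nonempty (CQ d ≃* alternatingGroup (Fin m)) →
      Odd (centralizer ({sQ d} : Set (CQ d))).index := by
    rintro m k hk ho ⟨e⟩
    rw [Nat.card_congr e.toEquiv, hk] at hm
    rwa [show (centralizer ({sQ d} : Set (CQ d))).index = k by omega]
  have hcard : ∀ m, 2 ≤ m → Nat.card (alternatingGroup (Fin m)) = m.factorial / 2 := by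
    intro m hm
    have : Nontrivial (Fin m) := Fin.nontrivial_iff_two_le.2 hm
    rw [nat_card_alternatingGroup, Nat.card_fin]
  rcases iso_alt d hd with h | h
  · exact key 8 105 (by rw [hcard 8 (by norm_num)]; rfl) (by decide) h
  · exact key 9 945 (by rw [hcard 9 (by norm_num)]; rfl) (by decide) h

theorem disjoint_LV {z : ↥(CV d)} (hL : z ∈ LV d) (hz : z ∈ fourV d) : z = 1 := by
  have : (cT d).FiniteIndex := inferInstance
  set A := Abelianization ↥(cT d)
  have key : ∀ (k : ℕ) (g₀ : ↥(CV d)), g₀⁻¹ * z ^ k * g₀ ∈ cT d → g₀⁻¹ * z ^ k * g₀ = z ^ k := fun k g₀ _ => by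
    rw [mul_assoc, ← fourV_central d (pow_mem hz k) g₀, inv_mul_cancel_left]
  have h1 : MonoidHom.transfer (Abelianization.of : ↥(cT d) →* A) z = 1 :=
    MonoidHom.mem_ker.1 (Abelianization.commutator_subset_ker _ hL)
  rw [MonoidHom.transfer_eq_pow _ z key] at h1
  have h2 : (⟨z ^ (cT d).index, MonoidHom.transfer_eq_pow_aux z key⟩ : ↥(cT d)) ∈ commutator ↥(cT d) := by
    rw [← Abelianization.ker_of, MonoidHom.mem_ker]
    exact h1
  have h3 : z ^ (cT d).index ∈ imC d := by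
    have := Subgroup.mem_map_of_mem (cT d).subtype h2
    rw [Subgroup.map_subtype_commutator] at this
    exact cT_commutator d this
  have hzz : z * z = 1 := by
    obtain ⟨i, rfl⟩ := hz
    exact Subtype.ext (by simp only [Subgroup.coe_mul, OneMemClass.coe_one]; rw [← map_mul, vx_sq, map_one])
  obtain ⟨k, hk⟩ := odd_cT d hd
  rw [hk, pow_add, pow_mul, pow_two, hzz, one_pow, one_mul, pow_one] at h3
  exact fourV_imC d hz h3

/-- The model lies in the derived subgroup. -/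
theorem imC_le : imC d ≤ LV d := by
  obtain ⟨m, hm⟩ := exists_mover hd 2
  have h32 : m * d.emb a45 * m⁻¹ = d.emb b45 := by
    rw [← L'_32, hm, show cyc 2 32 = 4 by decide +kernel, L'_4]
  have h4 : m * d.emb b45 * m⁻¹ = d.emb (a45 * b45) := by
    rw [← L'_4, hm]
    exact congrArg d.emb (by decide +kernel)
  have hconj : ∀ g : ↥(CV d), m * g.1 * m⁻¹ ∈ CV d := by
    intro g
    have hb : m * g.1 * m⁻¹ * d.emb b45 = d.emb b45 * (m * g.1 * m⁻¹) := by
      rw [← h32, show m * g.1 * m⁻¹ * (m * d.emb a45 * m⁻¹) = m * (g.1 * d.emb a45) * m⁻¹ by group,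
        ((mem_CV d).1 g.2).1]
      group
    have hc : m * g.1 * m⁻¹ * d.emb (a45 * b45) = d.emb (a45 * b45) * (m * g.1 * m⁻¹) := by
      rw [← h4, show m * g.1 * m⁻¹ * (m * d.emb b45 * m⁻¹) = m * (g.1 * d.emb b45) * m⁻¹ by group,
        ((mem_CV d).1 g.2).2]
      group
    refine (mem_CV d).2 ⟨?_, hb⟩
    have e : a45 = a45 * b45 * b45 := by rw [mul_assoc, model_facts.2.1, mul_one]
    rw [e, map_mul, ← mul_assoc, hc, mul_assoc, hb, ← mul_assoc]
  let φ : ↥(CV d) →* ↥(CV d) :=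
    MonoidHom.codRestrict ((MulAut.conj m).toMonoidHom.comp (CV d).subtype) (CV d) hconj
  have hφ : ∀ l ∈ LV d, φ l ∈ LV d := fun l hl => by
    have h := Subgroup.mem_map_of_mem φ hl
    rw [LV, _root_.commutator_def, map_commutator] at h
    exact commutator_mono le_top le_top h
  have fixed : ∀ n : Fin 64, cyc 2 n = n → (⟨d.emb (L' n), L'_mem_CV d n⟩ : ↥(CV d)) ∈ LV d := by
    intro n hn
    have hmem : (⟨d.emb (L' n), L'_mem_CV d n⟩ : ↥(CV d)) ∈ LV d ⊔ fourV d := by rw [sup_fourV d hd]; trivial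
    obtain ⟨l, hl, z, hz, e⟩ := Subgroup.mem_sup_of_normal_right.1 hmem
    obtain ⟨i, rfl⟩ := hz
    obtain ⟨j, hj, hne⟩ := (by decide +kernel : ∀ i : Fin 4, ∃ k : Fin 64,
      (L' k = vx i ∧ ∃ j : Fin 4, L' (cyc 2 k) = vx j ∧ (j = i → i = 0))) i
    obtain ⟨j', hj', hne'⟩ := hne
    have hfix : φ ⟨d.emb (L' n), L'_mem_CV d n⟩ = ⟨d.emb (L' n), L'_mem_CV d n⟩ := Subtype.ext (by
      show m * d.emb (L' n) * m⁻¹ = d.emb (L' n)
      rw [hm, hn])
    have hv : φ ⟨d.emb (vx i), vx_mem d i⟩ = ⟨d.emb (vx j'), vx_mem d j'⟩ := Subtype.ext (by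
      show m * d.emb (vx i) * m⁻¹ = d.emb (vx j')
      rw [← hj, hm, hj'])
    have h := hfix
    rw [← e, map_mul, hv] at h
    set zi : ↥(CV d) := ⟨d.emb (vx i), vx_mem d i⟩
    set zj : ↥(CV d) := ⟨d.emb (vx j'), vx_mem d j'⟩
    have h' : (φ l)⁻¹ * l = zj * zi⁻¹ := by
      rw [inv_mul_eq_iff_eq_mul, ← mul_assoc, h, mul_inv_cancel_right]
    have hz1 := disjoint_LV d hd (h' ▸ mul_mem (inv_mem (hφ l hl)) hl)
      (mul_mem ⟨j', rfl⟩ (inv_mem ⟨i, rfl⟩))
    have hij : j' = i := (by decide +kernel : ∀ a b : Fin 4, vx a = vx b → a = b) _ _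
      (d.inj (congrArg Subtype.val (mul_inv_eq_one.1 hz1)))
    have hi := hne' hij
    have hzi : zi = 1 := Subtype.ext (by show d.emb (vx i) = 1; rw [hi]; exact map_one _)
    have e' : l * zi = ⟨d.emb (L' n), L'_mem_CV d n⟩ := e
    rwa [← e', hzi, mul_one]
  let K : Subgroup ↥W0 :=
    { carrier := {a | ∃ h : d.emb a ∈ CV d, (⟨d.emb a, h⟩ : ↥(CV d)) ∈ LV d}
      one_mem' := ⟨by rw [map_one]; exact one_mem _, by
        convert (LV d).one_mem
        exact map_one d.emb⟩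
      mul_mem' := by
        rintro a b ⟨ha, ha'⟩ ⟨hb, hb'⟩
        refine ⟨by rw [map_mul]; exact mul_mem ha hb, ?_⟩
        convert (LV d).mul_mem ha' hb'
        exact map_mul d.emb _ _
      inv_mem' := by
        rintro a ⟨ha, ha'⟩
        refine ⟨by rw [map_inv]; exact inv_mem ha, ?_⟩
        convert (LV d).inv_mem ha'
        exact map_inv d.emb _ }
  obtain ⟨f1, f2, f8, e0, e2, e3, hbraid, hc1⟩ :
      cyc 2 1 = 1 ∧ cyc 2 2 = 2 ∧ cyc 2 8 = 8 ∧ tg 0 = L' 1 ∧ tg 2 = L' 2 ∧ tg 3 = L' 8 ∧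
      tg 1 = (tg 0 * tg 1) * tg 0 * (tg 0 * tg 1)⁻¹ ∧
      (tg 0 * tg 1) * a45 = a45 * (tg 0 * tg 1) ∧ (tg 0 * tg 1) * b45 = b45 * (tg 0 * tg 1) := by
    repeat' refine And.intro ?_ ?_
    all_goals decide +kernel
  have h0 : tg 0 ∈ K := ⟨e0 ▸ L'_mem_CV d 1, by simp only [e0]; exact fixed 1 f1⟩
  have hK : ∀ k, tg k ∈ K := by
    intro k
    fin_cases k
    · exact h0
    · show tg 1 ∈ K
      obtain ⟨h, h'⟩ := h0
      set c : ↥(CV d) := ⟨d.emb (tg 0 * tg 1), emb_mem_CV d hc1.1 hc1.2⟩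
      have hmem := (inferInstance : (LV d).Normal).conj_mem _ h' c
      refine ⟨?_, ?_⟩
      · rw [hbraid, map_mul, map_mul, map_inv]
        exact (c * ⟨_, h⟩ * c⁻¹).2
      · convert hmem
        simp only [Subgroup.coe_mul, InvMemClass.coe_inv, c]
        rw [← map_inv, ← map_mul, ← map_mul, ← hbraid]
    · exact ⟨e2 ▸ L'_mem_CV d 2, by
        show (⟨d.emb (tg 2), _⟩ : ↥(CV d)) ∈ LV d
        simp only [e2]; exact fixed 2 f2⟩
    · exact ⟨e3 ▸ L'_mem_CV d 8, by
        show (⟨d.emb (tg 3), _⟩ : ↥(CV d)) ∈ LV d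
        simp only [e3]; exact fixed 8 f8⟩
  rintro _ ⟨n, hn, rfl⟩
  have hT : ev n ∈ T8 := by
    obtain ⟨i, rfl⟩ := hn.exists_tn
    exact (by decide +kernel : ∀ (i : Fin 192) (j : Fin 13), 8 ≤ j.val → std (ev (tn i)) j = j) i
  exact (T8_closure hK hT).2

end Cfsg.Agent.S3298Lib
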